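import Cfsg.Agent.Fi22Aut.Model

/-! Facts about the plane and a pair of vectors dual to it. -/

set_option autoImplicit false
set_option maxRecDepth 20000
set_option Elab.async false

open Finset Cfsg Cfsg.Agent

namespace Cfsg.Agent.LargeFischerAut

open Cfsg.Agent.LargeFischer hiding v1
open Fi22Aut

/-- dual to the first -/
def va : Vec6 := Pi.single (0 : Fin 6) ((0, 1) : W4)

/-- dual to the second -/
def vb : Vec6 := Pi.single (0 : Fin 6) ((1, 0) : W4)

theorem dual_facts : bp v0 va = 1 ∧ bp v1 va = 0 ∧ bp v0 vb = 0 ∧ bp v1 vb = 1 := by decide +kernel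

theorem plane_facts : ∀ p : W4, bp v0 (vv p) = 0 ∧ bp v1 (vv p) = 0 ∧ (vv p = 0 → p = 0) ∧
    bp (vv p) va = p.1 ∧ bp (vv p) vb = p.2 := by decide +kernel

/-- the two possible maps into the plane -/
theorem plane_maps : ∀ A B : W4, bp va (vv A) = 0 ∧ bp vb (vv B) = 0 ∧
    bp va (vv B) + bp (vv A) vb + bp (vv A) (vv B) = 0 →
    (A = 0 ∧ B = 0) ∨ (A = (0, 1) ∧ B = (1, 0)) := by decide +kernel

theorem par_add6 (a c : Vec6) : par (a + c) = par a + par c + bp a c := by
  rw [bp_eq]
  exact (show ∀ p q r : ZMod 2, r = p + q + (r + p + q) by decide) _ _ _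

/-- the part away from the plane -/
def rest (x : Vec6) : Vec6 :=
  x + (if bp v0 x = 0 then 0 else va) + (if bp v1 x = 0 then 0 else vb)

theorem rest_perp (x : Vec6) : bp v0 (rest x) = 0 ∧ bp v1 (rest x) = 0 := by
  obtain ⟨h1, h2, h3, h4⟩ := dual_facts
  have z0 : bp v0 (0 : Vec6) = 0 := by decide +kernel
  have z1 : bp v1 (0 : Vec6) = 0 := by decide +kernel
  rcases zmod2_cases (bp v0 x) with e0 | e0 <;> rcases zmod2_cases (bp v1 x) with e1 | e1 <;>
    simp only [rest, e0, e1, bp_add_right, if_true, if_neg (one_ne_zero : (1 : ZMod 2) ≠ 0), h1, h2, h3, h4, z0, z1] <;>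
    decide

theorem rest_decomp (x : Vec6) :
    x = rest x + (if bp v0 x = 0 then 0 else va) + (if bp v1 x = 0 then 0 else vb) := by
  rw [rest]
  generalize (if bp v0 x = 0 then (0 : Vec6) else va) = a
  generalize (if bp v1 x = 0 then (0 : Vec6) else vb) = b
  rw [show x + a + b + a + b = x + ((a + a) + (b + b)) by abel, add_self6, add_self6, add_zero, add_zero]

/-- every point of the plane arises -/
theorem plane_onto (p : W4) : ∃ v : Vec6, ((bp v1 v, bp v0 v) : W4) = p :=
  ⟨(if p.1 = 0 then 0 else vb) + (if p.2 = 0 then 0 else va),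
    (show ∀ p : W4, ((bp v1 ((if p.1 = 0 then 0 else vb) + (if p.2 = 0 then 0 else va)),
      bp v0 ((if p.1 = 0 then 0 else vb) + (if p.2 = 0 then 0 else va))) : W4) = p by decide +kernel) p⟩

/-- what is orthogonal to the complement is in the plane -/
theorem mem_plane {y : Vec6} (h : ∀ x, bp v0 x = 0 → bp v1 x = 0 → bp x y = 0) : ∃ p, y = vv p := by
  refine mem_Uv.1 (perp_perp_Uv fun x hx => ?_)
  obtain ⟨h0, h1⟩ := mem_perp_Uv.1 hx
  rw [vv_facts.1] at h0
  rw [vv_facts.2.1] at h1
  exact h x h0 h1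

end Cfsg.Agent.LargeFischerAut
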