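import Cfsg.Agent.M22Cent.Facts
import Cfsg.Agent.M22Cent.Result
import Cfsg.Agent.FischerTypes.M22
import Cfsg.Agent.Layer.Components

/-! What is needed about a group isomorphic to `Fi₂₂`: its type and the centraliser of a transposition. -/

set_option autoImplicit false
set_option Elab.async false

open Cfsg

namespace Cfsg.Agent.LargeFischerAut

/-- the centraliser of a transposition of the presented group is quasisimple, with centre generated by it -/
theorem t_centralizer :
    IsQuasisimple ↥Fi22Trans.H ∧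
      ∃ h : Fi22Trans.t ∈ Fi22Trans.H, Subgroup.center ↥Fi22Trans.H = Subgroup.zpowers ⟨Fi22Trans.t, h⟩ := by
  obtain ⟨h1, ⟨q⟩, hsplit⟩ := Fi22U62Iso.nonsplit_double
  haveI : IsSimpleGroup (Cfsg.PSU 6 Fi22U62Iso.K 2) :=
    Cfsg.Agent.S0283.result (Cfsg.Agent.ThreeTrans.SU32.F4.card_eq.trans (by norm_num)) 6
      (by norm_num) (by norm_num)
  haveI hs : IsSimpleGroup (↥Fi22Trans.H ⧸ Subgroup.center ↥Fi22Trans.H) :=
    (MulEquiv.isSimpleGroup_congr q).2 inferInstance
  have ht : Fi22Trans.t ∈ Fi22Trans.H := by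
    rw [← Fi22Trans.centralizer_eq]; exact Subgroup.mem_centralizer_singleton_iff.2 rfl
  set tH : ↥Fi22Trans.H := ⟨Fi22Trans.t, ht⟩
  have htc : tH ∈ Subgroup.center ↥Fi22Trans.H := Subgroup.mem_center_iff.2 fun x => Subtype.ext
    (Subgroup.mem_centralizer_singleton_iff.1 (Fi22Trans.le_centralizer x.2))
  have hto : orderOf tH = 2 := by rw [← Subgroup.orderOf_coe]; exact Fi22Trans.orderOf_t
  haveI : Finite ↥(Subgroup.center ↥Fi22Trans.H) := Nat.finite_of_card_ne_zero (by rw [h1]; norm_num)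
  refine ⟨⟨⟨?_⟩, hs⟩, ht, ?_⟩
  · set K := commutator ↥Fi22Trans.H with hK
    rcases ((inferInstance : K.Normal).map (QuotientGroup.mk' (Subgroup.center ↥Fi22Trans.H))
        (QuotientGroup.mk'_surjective _)).eq_bot_or_eq_top with h | h
    · exfalso
      rw [Subgroup.map_eq_bot_iff, QuotientGroup.ker_mk'] at h
      have hcomm : ∀ a b : ↥Fi22Trans.H ⧸ Subgroup.center ↥Fi22Trans.H, a * b = b * a := by
        intro a b
        obtain ⟨a, rfl⟩ := QuotientGroup.mk'_surjective _ a
        obtain ⟨b, rfl⟩ := QuotientGroup.mk'_surjective _ b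
        rw [← commutatorElement_eq_one_iff_mul_comm, ← map_commutatorElement]
        exact (QuotientGroup.eq_one_iff _).2
          (h (Subgroup.commutator_mem_commutator (Subgroup.mem_top a) (Subgroup.mem_top b)))
      letI : CommGroup (↥Fi22Trans.H ⧸ Subgroup.center ↥Fi22Trans.H) :=
        { (inferInstance : Group (↥Fi22Trans.H ⧸ Subgroup.center ↥Fi22Trans.H)) with mul_comm := hcomm }
      haveI : IsCyclic (↥Fi22Trans.H ⧸ Subgroup.center ↥Fi22Trans.H) := IsSimpleGroup.isCyclic
      obtain ⟨hs1, hs2, hnc⟩ := FischerTypes.F22.sample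
      have hle : FischerTypes.F22.P0 ⊆ (Fi22Trans.H : Set _) := fun y hy =>
        FischerTypes.F22.closure_partners ▸ Subgroup.subset_closure hy
      exact hnc (congrArg Subtype.val (commutative_of_cyclic_center_quotient
        (QuotientGroup.mk' (Subgroup.center ↥Fi22Trans.H)) (by rw [QuotientGroup.ker_mk'])
        ⟨_, hle hs1⟩ ⟨_, hle hs2⟩))
    · have hsup : K ⊔ Subgroup.center ↥Fi22Trans.H = ⊤ := by
        have := congrArg (Subgroup.comap (QuotientGroup.mk' (Subgroup.center ↥Fi22Trans.H))) h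
        rwa [Subgroup.comap_map_eq, QuotientGroup.ker_mk', Subgroup.comap_top] at this
      by_cases hZ : Subgroup.center ↥Fi22Trans.H ≤ K
      · rwa [sup_eq_left.2 hZ] at hsup
      exfalso
      apply hsplit K
      haveI : Fact (Nat.card ↥(Subgroup.center ↥Fi22Trans.H)).Prime := ⟨h1 ▸ Nat.prime_two⟩
      have hinf : K.subgroupOf (Subgroup.center ↥Fi22Trans.H) = ⊥ :=
        (Subgroup.eq_bot_or_eq_top_of_prime_card _).resolve_right fun e => hZ (Subgroup.subgroupOf_eq_top.1 e)
      refine Subgroup.isComplement'_of_disjoint_and_mul_eq_univ ?_ ?_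
      · rw [Subgroup.subgroupOf_eq_bot] at hinf
        exact hinf.symm
      · rw [← Subgroup.coe_mul_of_right_le_normalizer_left, sup_comm, hsup, Subgroup.coe_top]
        exact le_top.trans (Subgroup.normalizer_eq_top_iff.2 inferInstance).ge
  · exact (Subgroup.eq_of_le_of_card_ge (Subgroup.zpowers_le.2 htc) (by rw [Nat.card_zpowers, hto, h1])).symm

universe u

variable {A : Type u} [Group A]

/-- the type -/
theorem type22 (f : A ≃* Cfsg.Spor.Fi22) :
    ∃ E : Set A, IsThreeTranspositionClass E ∧ IsOfTypeM22 A E :=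
  ⟨f.symm '' M22Cent.T, M22Cent.class_transfer f.symm M22Cent.T_class,
    FischerTypes.m22_transfer f.symm M22Cent.T_type⟩

/-- the involution -/
theorem invol22 (f : A ≃* Cfsg.Spor.Fi22) :
    ∃ d' : A, orderOf d' = 2 ∧ IsQuasisimple ↥(Subgroup.centralizer ({d'} : Set A)) ∧
      (∃ (K : Type) (_ : Field K) (_ : Fintype K), Fintype.card K = 4 ∧
        ∃ _ : ((Subgroup.zpowers d').subgroupOf (Subgroup.centralizer ({d'} : Set A))).Normal,
          Nonempty ((↥(Subgroup.centralizer ({d'} : Set A)) ⧸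
            (Subgroup.zpowers d').subgroupOf (Subgroup.centralizer ({d'} : Set A))) ≃* Cfsg.PSU 6 K 2)) ∧
      ∃ g, g * d' * g⁻¹ ∈ Subgroup.centralizer ({d'} : Set A) ∧ g * d' * g⁻¹ ≠ d' := by
  obtain ⟨hqs, htH, hcen⟩ := t_centralizer
  obtain ⟨-, ⟨q⟩, -⟩ := Fi22U62Iso.nonsplit_double
  set d' : A := f.symm Fi22Trans.t with hd'
  have hfd : f d' = Fi22Trans.t := f.apply_symm_apply _
  have hmem : ∀ x : A, x ∈ Subgroup.centralizer ({d'} : Set A) ↔ f x ∈ Fi22Trans.H := fun x => by
    rw [← Fi22Trans.centralizer_eq, Subgroup.mem_centralizer_singleton_iff,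
      Subgroup.mem_centralizer_singleton_iff, ← hfd, ← map_mul, ← map_mul, f.apply_eq_iff_eq]
  let e : ↥(Subgroup.centralizer ({d'} : Set A)) ≃* ↥Fi22Trans.H :=
    { toFun := fun x => ⟨f x.1, (hmem x.1).1 x.2⟩
      invFun := fun y => ⟨f.symm y.1, (hmem _).2 (by rw [f.apply_symm_apply]; exact y.2)⟩
      left_inv := fun x => Subtype.ext (f.symm_apply_apply _)
      right_inv := fun y => Subtype.ext (f.apply_symm_apply _)
      map_mul' := fun a b => Subtype.ext (map_mul f a.1 b.1) }
  haveI hn : ((Subgroup.zpowers d').subgroupOf (Subgroup.centralizer ({d'} : Set A))).Normal := ⟨fun a ha b => by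
    obtain ⟨i, hi⟩ := Subgroup.mem_zpowers_iff.1 (Subgroup.mem_subgroupOf.1 ha)
    have hc : Commute (b : A) d' := Subgroup.mem_centralizer_singleton_iff.1 b.2
    refine Subgroup.mem_subgroupOf.2 (Subgroup.mem_zpowers_iff.2 ⟨i, ?_⟩)
    rw [Subgroup.coe_mul, Subgroup.coe_mul, Subgroup.coe_inv, ← hi, (hc.zpow_right i).eq, mul_inv_cancel_right]⟩
  have hN : ((Subgroup.zpowers d').subgroupOf (Subgroup.centralizer ({d'} : Set A))).map e.toMonoidHom =
      Subgroup.center ↥Fi22Trans.H := by
    have hd : d' ∈ Subgroup.centralizer ({d'} : Set A) := Subgroup.mem_centralizer_singleton_iff.2 rfl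
    have h0 : (Subgroup.zpowers d').subgroupOf (Subgroup.centralizer ({d'} : Set A)) = Subgroup.zpowers ⟨d', hd⟩ := by
      ext x
      simp only [Subgroup.mem_subgroupOf, Subgroup.mem_zpowers_iff]
      exact exists_congr fun i => ⟨fun h => Subtype.ext (by simpa using h),
        fun h => by simpa using congrArg Subtype.val h⟩
    rw [h0, MonoidHom.map_zpowers, hcen]
    exact congrArg Subgroup.zpowers (Subtype.ext hfd)
  refine ⟨d', by rw [hd', MulEquiv.orderOf_eq]; exact Fi22Trans.orderOf_t, Layer.isQuasisimple_congr e.symm hqs,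
    ⟨Fi22U62Iso.K, inferInstance, inferInstance, Cfsg.Agent.ThreeTrans.SU32.F4.card_eq, hn,
      ⟨(QuotientGroup.congr _ _ e hN).trans q⟩⟩, ?_⟩
  set u := Fi22Trans.el Fi22Trans.rep0 with hu
  have hc := FischerTypes.F22.commute_rep0
  refine ⟨f.symm u⁻¹, (hmem _).2 ?_, fun h => ?_⟩
  · simp only [map_mul, map_inv, f.apply_symm_apply, hfd, inv_inv]
    rw [← Fi22Trans.centralizer_eq, Subgroup.mem_centralizer_singleton_iff]
    exact hc.eq.symm
  · have h' := congrArg f h
    simp only [map_mul, map_inv, f.apply_symm_apply, hfd, inv_inv] at h'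
    refine Fi22Trans.el_ne_one Fi22Trans.rep_check.1.2 ?_
    rw [Fi22Trans.el_prodWord, ← hu, h', Fi22Trans.t_sq]

end Cfsg.Agent.LargeFischerAut
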