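import Cfsg.Agent.LargeFischerAut.Outer

/-! An element of odd order commuting with `z` and with the part of `Q` orthogonal to the plane is trivial. -/

set_option autoImplicit false
set_option maxRecDepth 20000
set_option Elab.async false

open Finset Cfsg Cfsg.Agent

namespace Cfsg.Agent.LargeFischerAut

open Cfsg.Agent.LargeFischer hiding v1
open Fi22Aut

universe v

variable {X : Type v} [Group X] [Finite X] {G₀ : Subgroup X} {z : ↥G₀}
  {Q : Subgroup (Subgroup.centralizer ({z} : Set ↥G₀))} [Q.Normal]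

/-- what is moved stays in the plane, so the fourth power centralises `Q` -/
theorem pow_four_comm_of_fix (A : Amb z Q) (S : Setup z Q) {w : X} (hwz : Commute w (z : X))
    (hfix : ∀ q : ↥Q, bp v0 (S.cv q) = 0 → bp v1 (S.cv q) = 0 → Commute w (qX q)) (q : ↥Q) :
    Commute (w ^ 4) (qX q) := by
  set f := act A hwz with hf
  have hff : ∀ {r : ↥Q}, bp v0 (S.cv r) = 0 → bp v1 (S.cv r) = 0 → f r = r :=
    fun h0 h1 => (act_fix A hwz).2 (hfix _ h0 h1)
  have hbp : ∀ a b : ↥Q, bp (S.cv (f a)) (S.cv (f b)) = bp (S.cv a) (S.cv b) := by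
    intro a b
    have h : bp (S.cv (f a)) (S.cv (f b)) = 0 ↔ bp (S.cv a) (S.cv b) = 0 := by
      rw [← S.comm_cv, ← S.comm_cv, ← map_mul, ← map_mul, (act_inj A hwz).eq_iff]
    exact (show ∀ p q : ZMod 2, (p = 0 ↔ q = 0) → p = q by decide) _ _ h
  have hplane : ∀ a : ↥Q, ∃ p, S.cv a + S.cv (f a) = vv p := by
    intro a
    refine mem_plane fun x h0 h1 => ?_
    have hr : f (LargeFischer.lift S.D.F x) = LargeFischer.lift S.D.F x :=
      hff (by rw [S.cv_lift]; exact h0) (by rw [S.cv_lift]; exact h1)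
    have h := hbp a (LargeFischer.lift S.D.F x)
    rw [hr, S.cv_lift] at h
    rw [bp_symm, bp_add_left, h]
    exact (show ∀ p : ZMod 2, p + p = 0 by decide) _
  -- the square fixes every coset of the centre
  have h2 : ∀ a : ↥Q, f (f a) = a ∨ f (f a) = a * S.ζ := by
    intro a
    obtain ⟨p, hp⟩ := hplane a
    have hw : f (a⁻¹ * f a) = a⁻¹ * f a := by
      refine hff ?_ ?_ <;> rw [S.cv_mul, S.cv_inv, hp]
      · exact (plane_facts p).1
      · exact (plane_facts p).2.1
    rw [map_mul, map_inv] at hw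
    refine S.cv_congr ?_
    have e := congrArg S.cv hw
    rw [S.cv_mul, S.cv_mul, S.cv_inv, S.cv_inv, add_comm (S.cv a) (S.cv (f a))] at e
    exact (add_left_cancel e).symm
  have hζ : f S.ζ = S.ζ := (act_fix A hwz).2 (by rw [qX_ζ]; exact hwz)
  have h4 : f (f (f (f q))) = q := by
    rcases h2 q with e | e
    · rw [e, e]
    · rw [e, map_mul, map_mul, hζ, hζ, e, mul_assoc, S.ζ_sq, mul_one]
  have key : qX (f (f (f (f q)))) = w ^ 4 * qX q * (w ^ 4)⁻¹ := by
    rw [hf, act_spec A hwz, act_spec A hwz, act_spec A hwz, act_spec A hwz]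
    simp only [pow_succ, pow_zero, one_mul, mul_inv_rev, mul_assoc]
  rw [h4] at key
  exact (mul_inv_eq_iff_eq_mul.1 key.symm)

omit [Q.Normal] in
/-- an element of a `2`-group of odd order is trivial -/
theorem eq_one_of_odd_mem {n : ℕ} (hcard : Nat.card ↥Q = 2 ^ n) {q : ↥Q} (h : Odd (orderOf q)) : q = 1 := by
  have hd : orderOf q ∣ 2 ^ n := hcard ▸ orderOf_dvd_natCard q
  obtain ⟨k, -, hk⟩ := (Nat.dvd_prime_pow Nat.prime_two).1 hd
  rcases k with _ | k
  · exact orderOf_eq_one_iff.1 (by rw [hk, pow_zero])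
  · rw [hk, pow_succ] at h
    exact absurd h (by simp [Nat.not_odd_iff_even])

/-- no odd element commutes with `z` and that part of `Q` -/
theorem eq_one_of_odd_of_fix (A : Amb z Q) (S : Setup z Q) {n : ℕ} (hcard : Nat.card ↥Q = 2 ^ n) {w : X}
    (hwz : Commute w (z : X)) (hw : Odd (orderOf w))
    (hfix : ∀ q : ↥Q, bp v0 (S.cv q) = 0 → bp v1 (S.cv q) = 0 → Commute w (qX q)) : w = 1 := by
  obtain ⟨r, hr⟩ := A.cent (w ^ 4) (hwz.pow_left 4) (pow_four_comm_of_fix A S hwz hfix)
  have hc : (orderOf w).Coprime 4 := (Nat.coprime_two_right.2 hw).pow_right 2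
  have hor : orderOf (qX r) = orderOf w := by rw [hr]; exact hc.orderOf_pow
  rw [orderOf_injective (qX (Q := Q)) qX_inj] at hor
  have h1 : r = 1 := eq_one_of_odd_mem hcard (hor ▸ hw)
  rw [h1, orderOf_one] at hor
  exact orderOf_eq_one_iff.1 hor.symm

/-- in particular none centralises `G₀ ∩ C(d)` for an outer `d` of the Siegel kind -/
theorem Sieg.eq_one_of_odd (A : Amb z Q) (S : Setup z Q) {n : ℕ} (hcard : Nat.card ↥Q = 2 ^ n) {d : X}
    (hd : Sieg S d) {w : X} (hw : Odd (orderOf w))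
    (hK : ∀ g ∈ G₀, Commute g d → Commute w g) : w = 1 := by
  refine eq_one_of_odd_of_fix A S hcard (hK _ z.2 hd.commz.symm) hw fun q h0 h1 => ?_
  exact hK _ q.1.1.2 (hd.fix q h0 h1).symm

end Cfsg.Agent.LargeFischerAut
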