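import Cfsg.Agent.LargeFischerAut.M24Layer
import Cfsg.Agent.ThreeTrans.RigidTypeM

/-! The local data of type M(24). -/

set_option autoImplicit false
set_option maxRecDepth 20000
set_option Elab.async false

open Finset Cfsg Cfsg.Agent
open Cfsg.Agent.ThreeTrans (dperp SetIso Cover24)

namespace Cfsg.Agent.LargeFischerAut

open Cfsg.Agent.LargeFischer hiding v1
open Fi22Aut

universe v

variable {X : Type v} [Group X] [Finite X]

/-- A cover of a member gives one of a conjugate. -/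
theorem cover24_conj {D : Set X} {Y : Type v} [Group Y] [Finite Y] {E : Set Y}
    (hc : ∀ g : X, ∀ a ∈ D, g * a * g⁻¹ ∈ D) {d : X} (h : Cover24 D E d) (g : X) :
    Cover24 D E (g * d * g⁻¹) := by
  obtain ⟨χ, ψ, hχ, hker, hagree, hiso⟩ := h.maps
  have hC := M22Cent.centralizer_conj_eq g d
  have hiso' := ThreeTrans.setIso_conj hc g⁻¹ (g * d * g⁻¹)
  rw [show g⁻¹ * (g * d * g⁻¹) * g⁻¹⁻¹ = d by group] at hiso'
  have hmem : ∀ {x : X}, x ∈ Subgroup.centralizer ({g * d * g⁻¹} : Set X) →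
      g⁻¹ * x * g⁻¹⁻¹ ∈ Subgroup.centralizer ({d} : Set X) := by
    intro x hx
    rw [hC] at hx
    obtain ⟨y, hy, rfl⟩ := hx
    rwa [show g⁻¹ * (MulAut.conj g).toMonoidHom y * g⁻¹⁻¹ = y by simp [mul_assoc]]
  let ε : ↥(Subgroup.centralizer ({g * d * g⁻¹} : Set X)) →* ↥(Subgroup.centralizer ({d} : Set X)) :=
    MonoidHom.mk' (fun x => ⟨g⁻¹ * x * g⁻¹⁻¹, hmem x.2⟩) fun x y => Subtype.ext
      (show g⁻¹ * ((x : X) * y) * g⁻¹⁻¹ = g⁻¹ * (x : X) * g⁻¹⁻¹ * (g⁻¹ * (y : X) * g⁻¹⁻¹) by group)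
  have hε : Function.Surjective ε := fun y => ⟨⟨g * y * g⁻¹, by
    rw [hC]; exact ⟨y, y.2, rfl⟩⟩, Subtype.ext (show g⁻¹ * (g * (y : X) * g⁻¹) * g⁻¹⁻¹ = y by group)⟩
  refine ⟨χ.comp ε, ψ ∘ fun x => g⁻¹ * x * g⁻¹⁻¹, hχ.comp hε, fun x => ?_,
    fun x hx => hagree (ε x) ?_, ⟨hiso.bij.comp hiso'.bij, fun x hx y hy => ?_, fun x hx y hy => ?_⟩⟩
  · rw [MonoidHom.comp_apply, hker]
    show g⁻¹ * (x : X) * g⁻¹⁻¹ = 1 ∨ g⁻¹ * (x : X) * g⁻¹⁻¹ = d ↔ _
    rw [conj_eq_one_iff]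
    refine or_congr Iff.rfl ⟨fun h => ?_, fun h => by rw [h]; group⟩
    calc (x : X) = g * (g⁻¹ * (x : X) * g⁻¹⁻¹) * g⁻¹ := by group
      _ = g * d * g⁻¹ := by rw [h]
  · exact hiso'.bij.mapsTo hx
  · exact (hiso.comm _ (hiso'.bij.mapsTo hx) _ (hiso'.bij.mapsTo hy)).trans (hiso'.comm x hx y hy)
  · have e := hiso'.conj x hx y hy
    beta_reduce at e
    show ψ (g⁻¹ * (x * y * x) * g⁻¹⁻¹) = _
    rw [e]
    exact hiso.conj _ (hiso'.bij.mapsTo hx) _ (hiso'.bij.mapsTo hy)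

variable {G₀ : Subgroup X} {z : ↥G₀} {Q : Subgroup (Subgroup.centralizer ({z} : Set ↥G₀))} [Q.Normal]

variable (S : Setup z Q) {d : X} (A : Amb z Q) (hs : Sieg S d) (hdt : Commute d (S.tG : X)) (hd2 : orderOf d = 2)
  (hK : ∀ k ∈ S.K1, Commute d (((k : ↥S.Cg) : ↥G₀) : X))
  (T0 : ↥(C0 G₀ d)) (hT0 : (T0 : X) = (S.tG : X))
  (hcls : IsThreeTranspositionClass (conjugatesOf T0)) (h23 : IsOfTypeM23 ↥(C0 G₀ d) (conjugatesOf T0))

include A hs hdt hd2 hK hT0 hcls h23 in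
/-- everything needed -/
theorem m24_data : ∃ σ : X →* ℤˣ, M24Cent.Loc (conjugatesOf d) (conjugatesOf T0) σ ∧
    d * (S.tG : X) ∈ dperp (conjugatesOf d) d ∧ (∀ x, σ x = 1 ↔ x ∈ G₀) := by
  classical
  haveI : G₀.Normal := Subgroup.normal_of_index_eq_two A.idx
  have hdd : d * d = 1 := by rw [← sq, ← hd2]; exact pow_orderOf_eq_one d
  have hdi : d⁻¹ = d := inv_eq_of_mul_eq_one_left hdd
  have hlay := layer S A hs hdt hd2 hK T0 hT0 hcls h23
  let σ : X →* ℤˣ := MonoidHom.mk' (fun x => if x ∈ G₀ then 1 else -1) fun a b => by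
    by_cases ha : a ∈ G₀ <;> by_cases hb : b ∈ G₀ <;>
      simp [ha, hb, Subgroup.mul_mem_iff_of_index_two A.idx]
  have hσ : ∀ x, σ x = 1 ↔ x ∈ G₀ := fun x => by
    show (if x ∈ G₀ then (1 : ℤˣ) else -1) = 1 ↔ _
    by_cases hx : x ∈ G₀ <;> simp [hx]
  have hDconj : ∀ g : X, ∀ a ∈ conjugatesOf d, g * a * g⁻¹ ∈ conjugatesOf d := fun g a ha =>
    IsConj.trans ha (isConj_iff.2 ⟨g, rfl⟩)
  have hdt' : d * (S.tG : X) ∈ dperp (conjugatesOf d) d := by
    rw [hlay]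
    exact ⟨T0, mem_conjugatesOf_self, by rw [← hT0]⟩
  have hd0 : ∀ {x : X}, x ∈ Subgroup.centralizer ({d} : Set X) → Commute x d := fun hx =>
    Subgroup.mem_centralizer_singleton_iff.1 hx
  have hmk : ∀ x : ↥(Subgroup.centralizer ({d} : Set X)),
      (if (x : X) ∈ G₀ then (x : X) else d * x) ∈ C0 G₀ d := by
    intro x
    split_ifs with hx
    · exact ⟨hx, x.2⟩
    · exact ⟨show d * (x : X) ∈ G₀ by rw [Subgroup.mul_mem_iff_of_index_two A.idx]; exact iff_of_false hs.notMem hx,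
        Subgroup.mem_centralizer_singleton_iff.2 ((Commute.refl d).mul_left (hd0 x.2)).eq⟩
  let χ : ↥(Subgroup.centralizer ({d} : Set X)) →* ↥(C0 G₀ d) :=
    MonoidHom.mk' (fun x => ⟨_, hmk x⟩) fun a b => Subtype.ext (by
      show (if (a : X) * b ∈ G₀ then (a : X) * b else d * ((a : X) * b)) =
        (if (a : X) ∈ G₀ then (a : X) else d * a) * (if (b : X) ∈ G₀ then (b : X) else d * b)
      by_cases ha : (a : X) ∈ G₀ <;> by_cases hb : (b : X) ∈ G₀ <;>
        simp only [ha, hb, Subgroup.mul_mem_iff_of_index_two A.idx, if_true, if_false, iff_true, iff_false,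
          true_iff, false_iff, not_true_eq_false, not_false_eq_true]
      · rw [← mul_assoc, ← (hd0 a.2).eq, mul_assoc]
      · rw [mul_assoc]
      · rw [(hd0 a.2).mul_mul_mul_comm, hdd, one_mul])
  let ψ : X → ↥(C0 G₀ d) := fun y => if h : d * y ∈ C0 G₀ d then ⟨d * y, h⟩ else 1
  have hdmem : ∀ {y}, y ∈ dperp (conjugatesOf d) d → ∃ τ ∈ conjugatesOf T0, y = d * (τ : X) ∧ ψ y = τ := by
    intro y hy
    rw [hlay] at hy
    obtain ⟨τ, hτ, rfl⟩ := hy
    have e : d * (d * (τ : X)) = τ := by rw [← mul_assoc, hdd, one_mul]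
    refine ⟨τ, hτ, rfl, ?_⟩
    show (if h : d * (d * (τ : X)) ∈ C0 G₀ d then (⟨_, h⟩ : ↥(C0 G₀ d)) else 1) = τ
    rw [dif_pos (by rw [e]; exact τ.2)]
    exact Subtype.ext e
  have hcomm : ∀ (a b : ↥(C0 G₀ d)), Commute (d * (a : X)) (d * (b : X)) ↔ Commute a b := by
    intro a b
    have ha : Commute (a : X) d := hd0 a.2.2
    have hb : Commute (b : X) d := hd0 b.2.2
    constructor
    · intro h
      refine Subtype.ext ?_
      have h' : d * (a : X) * (d * (b : X)) = d * (b : X) * (d * (a : X)) := h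
      rw [ha.mul_mul_mul_comm, hb.mul_mul_mul_comm, hdd, one_mul, one_mul] at h'
      exact h'
    · intro h
      show d * (a : X) * (d * (b : X)) = d * (b : X) * (d * (a : X))
      rw [ha.mul_mul_mul_comm, hb.mul_mul_mul_comm, hdd, one_mul, one_mul]
      exact congrArg Subtype.val h.eq
  have hiso : SetIso (dperp (conjugatesOf d) d) (conjugatesOf T0) ψ := by
    refine ⟨⟨fun y hy => ?_, fun x hx y hy e => ?_, fun τ hτ => ?_⟩, fun x hx y hy => ?_, fun x hx y hy => ?_⟩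
    · obtain ⟨τ, hτ, -, e⟩ := hdmem hy
      rw [e]; exact hτ
    · obtain ⟨a, -, rfl, ea⟩ := hdmem hx
      obtain ⟨b, -, rfl, eb⟩ := hdmem hy
      rw [ea, eb] at e
      rw [e]
    · have hm : d * (τ : X) ∈ dperp (conjugatesOf d) d := by rw [hlay]; exact ⟨τ, hτ, rfl⟩
      obtain ⟨a, -, ea, eb⟩ := hdmem hm
      exact ⟨_, hm, by rw [eb]; exact Subtype.ext (mul_left_cancel ea).symm⟩
    · obtain ⟨a, -, rfl, ea⟩ := hdmem hx
      obtain ⟨b, -, rfl, eb⟩ := hdmem hy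
      rw [ea, eb]; exact (hcomm a b).symm
    · obtain ⟨a, ha, rfl, ea⟩ := hdmem hx
      obtain ⟨b, -, rfl, eb⟩ := hdmem hy
      rw [ea, eb]
      have e : d * (a : X) * (d * (b : X)) * (d * (a : X)) = d * ((a * b * a : ↥(C0 G₀ d)) : X) := by
        rw [(hd0 a.2.2).mul_mul_mul_comm, hdd, one_mul, Subgroup.coe_mul, Subgroup.coe_mul, ← mul_assoc,
          ((hd0 a.2.2).mul_left (hd0 b.2.2)).eq, mul_assoc]
      rw [e]
      show (if h : d * (d * ((a * b * a : ↥(C0 G₀ d)) : X)) ∈ C0 G₀ d then (⟨_, h⟩ : ↥(C0 G₀ d)) else 1) = _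
      have e' : d * (d * ((a * b * a : ↥(C0 G₀ d)) : X)) = ((a * b * a : ↥(C0 G₀ d)) : X) := by
        rw [← mul_assoc, hdd, one_mul]
      rw [dif_pos (by rw [e']; exact (a * b * a).2)]
      exact Subtype.ext e'
  have hcovd : Cover24 (conjugatesOf d) (conjugatesOf T0) d := by
    refine ⟨χ, ψ, fun y => ⟨⟨y, y.2.2⟩, Subtype.ext (if_pos y.2.1)⟩, fun x => ?_, fun x hx => ?_, hiso⟩
    · constructor
      · intro h
        have h' : (if (x : X) ∈ G₀ then (x : X) else d * x) = 1 := congrArg Subtype.val h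
        split_ifs at h' with hx
        · exact Or.inl h'
        · exact Or.inr ((eq_inv_of_mul_eq_one_right h').trans hdi)
      · intro h
        refine Subtype.ext ?_
        show (if (x : X) ∈ G₀ then (x : X) else d * x) = 1
        rcases h with h | h
        · rw [h, if_pos G₀.one_mem]
        · rw [h, if_neg hs.notMem, hdd]
    · obtain ⟨τ, -, e, eψ⟩ := hdmem hx
      rw [eψ]
      refine Subtype.ext ?_
      show (τ : X) = if (x : X) ∈ G₀ then (x : X) else d * x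
      have hxG : (x : X) ∉ G₀ := by
        rw [e, Subgroup.mul_mem_iff_of_index_two A.idx]
        exact fun h => hs.notMem (h.2 τ.2.1)
      rw [if_neg hxG, e, ← mul_assoc, hdd, one_mul]
  refine ⟨σ, ⟨fun a ha => ?_, fun a ha => ?_, hDconj, fun a ha b hb => isConj_iff.1 (IsConj.trans ha.symm hb),
    fun a ha => ?_, ThreeTrans.class_toGroup hcls, h23, fun b hb => ?_⟩, hdt', hσ⟩
  · obtain ⟨g, rfl⟩ := isConj_iff.1 ha
    calc g * d * g⁻¹ * (g * d * g⁻¹) = g * (d * d) * g⁻¹ := by group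
      _ = 1 := by rw [hdd, mul_one, mul_inv_cancel]
  · obtain ⟨g, rfl⟩ := isConj_iff.1 ha
    rw [Ne, conj_eq_one_iff]
    rintro rfl
    rw [orderOf_one] at hd2
    omega
  · obtain ⟨g, rfl⟩ := isConj_iff.1 ha
    rw [map_mul, map_mul, map_inv, mul_comm (σ g), mul_inv_cancel_right]
    exact if_neg hs.notMem
  · obtain ⟨g, rfl⟩ := isConj_iff.1 hb
    exact cover24_conj hDconj hcovd g

include A hs in
theorem q_shift_comm (hd2 : orderOf d = 2) (q : ↥Q) : Commute (qX q * d * (qX q)⁻¹) d := by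
  have hdd : d * d = 1 := by rw [← sq, ← hd2]; exact pow_orderOf_eq_one d
  have hdi : d⁻¹ = d := inv_eq_of_mul_eq_one_left hdd
  have e : qX q * d * (qX q)⁻¹ = d * qX (hs.dQ A q * q⁻¹) := by
    rw [map_mul, map_inv, show qX (hs.dQ A q) = d * qX q * d⁻¹ from act_spec A hs.commz q, hdi,
      ← mul_assoc, ← mul_assoc, ← mul_assoc, hdd, one_mul]
  have hm : S.cv (hs.dQ A q * q⁻¹) = vv (bp v1 (S.cv q), bp v0 (S.cv q)) := by
    rw [S.cv_mul, S.cv_inv, add_comm]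
    exact hs.m_formula A q
  rw [e]
  exact (Commute.refl d).mul_left (hs.fix _ (by rw [hm]; exact (plane_facts _).1)
    (by rw [hm]; exact (plane_facts _).2.1)).symm

include A hs hK in
theorem cent_t_le (x : X) (hdt : Commute d (S.tG : X)) (hx : Commute x (S.tG : X)) :
    x ∈ (qX (Q := Q)).range ⊔ Subgroup.centralizer ({d} : Set X) := by
  have hdC : d ∈ (qX (Q := Q)).range ⊔ Subgroup.centralizer ({d} : Set X) :=
    Subgroup.mem_sup_right (Subgroup.mem_centralizer_singleton_iff.2 rfl)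
  suffices key : ∀ g : ↥G₀, Commute (g : X) (S.tG : X) →
      (g : X) ∈ (qX (Q := Q)).range ⊔ Subgroup.centralizer ({d} : Set X) by
    by_cases hxG : x ∈ G₀
    · exact key ⟨x, hxG⟩ hx
    · have hdx : d * x ∈ G₀ := by
        rw [Subgroup.mul_mem_iff_of_index_two A.idx]; exact iff_of_false hs.notMem hxG
      exact (Subgroup.mul_mem_cancel_left _ hdC).1 (key ⟨_, hdx⟩ (hdt.mul_left hx))
  intro g hg
  let gC : ↥S.Cg := ⟨g, Subgroup.mem_centralizer_singleton_iff.2 (Subtype.ext hg.eq)⟩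
  by_cases hgK : gC ∈ S.K1
  · exact Subgroup.mem_sup_right (Subgroup.mem_centralizer_singleton_iff.2 (hK gC hgK).symm.eq)
  obtain ⟨-, -, hb0, hb1⟩ := dual_facts
  set q := LargeFischer.lift S.D.F vb with hq
  have hq0 : q ∈ S.CQ := S.mem_CQ.2 (by rw [hq, S.cv_lift]; exact hb0)
  have hq1 : S.qb ⟨q, hq0⟩ ∉ S.Kb := by
    rw [S.qb_Kb_iff]
    show ¬ bp v1 (S.cv q) = 0
    rw [hq, S.cv_lift, hb1]; exact one_ne_zero
  have hp : S.ι (S.jt ⟨q, hq0⟩) * gC ∈ S.K1 := by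
    show S.π (_ * gC) ∈ S.Kb
    rw [map_mul, Subgroup.mul_mem_iff_of_index_two S.Kb_index]
    exact iff_of_false hq1 hgK
  have h1 : Commute d (qX q * (g : X)) := hK _ hp
  exact (Subgroup.mul_mem_cancel_left _ (show qX q ∈ _ from Subgroup.mem_sup_left (MonoidHom.mem_range.2 ⟨q, rfl⟩))).1
    (Subgroup.mem_sup_right (Subgroup.mem_centralizer_singleton_iff.2 h1.symm.eq))

end Cfsg.Agent.LargeFischerAut
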