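import Cfsg.Agent.LargeFischerAut.M24Move
import Cfsg.Agent.M24Cent.Local

/-! The conjugates of the outer involution commuting with it. -/

set_option autoImplicit false
set_option maxRecDepth 20000
set_option Elab.async false

open Finset Cfsg Cfsg.Agent
open Cfsg.Agent.ThreeTrans (dperp)

namespace Cfsg.Agent.LargeFischerAut

open Cfsg.Agent.LargeFischer hiding v1
open Fi22Aut

universe v

variable {X : Type v} [Group X] [Finite X] {G₀ : Subgroup X} {z : ↥G₀}
  {Q : Subgroup (Subgroup.centralizer ({z} : Set ↥G₀))} [Q.Normal]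

variable (S : Setup z Q) {d : X} (A : Amb z Q) (hs : Sieg S d) (hdt : Commute d (S.tG : X)) (hd2 : orderOf d = 2)
  (hK : ∀ k ∈ S.K1, Commute d (((k : ↥S.Cg) : ↥G₀) : X))
  (T0 : ↥(C0 G₀ d)) (hT0 : (T0 : X) = (S.tG : X))
  (hcls : IsThreeTranspositionClass (conjugatesOf T0)) (h23 : IsOfTypeM23 ↥(C0 G₀ d) (conjugatesOf T0))

include A hs hdt hd2 hK hT0 hcls h23 in
/-- the conjugates of `d` commuting with `d`, and `d * z` is none -/
theorem layer : dperp (conjugatesOf d) d = (fun τ : ↥(C0 G₀ d) => d * (τ : X)) '' conjugatesOf T0 := by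
  classical
  have hdd : d * d = 1 := by rw [← sq, ← hd2]; exact pow_orderOf_eq_one d
  have hdi : d⁻¹ = d := inv_eq_of_mul_eq_one_left hdd
  have hE : IsThreeTranspositionGroup (conjugatesOf T0) := ThreeTrans.class_toGroup hcls
  have hz2 : (z : X) * (z : X) = 1 := z_sq S
  obtain ⟨h, hhd, hhv, hhact⟩ := hs.exists_move A
  set hX : X := ((h : ↥G₀) : X) with hhX
  have hhz : Commute hX (z : X) := congrArg Subtype.val (Subgroup.mem_centralizer_singleton_iff.1 h.2)
  -- the three elements over the plane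
  set uq : ↥Q := MulAut.conjNormal h S.t with huq
  set uq' : ↥Q := MulAut.conjNormal h uq with huq'
  have hcv' : S.cv uq' = v0 + v1 := by
    rw [huq', S.cv_conj, hhv, hhact, v1, sm_sm, show (1 + 1 : ZMod 3) = 2 from rfl, show srep 0 = v0 from rfl,
      v1_images.1]
    rfl
  have hqconj : ∀ q : ↥Q, qX (MulAut.conjNormal h q) = hX * qX q * hX⁻¹ := fun q => by
    show ((((MulAut.conjNormal h q : ↥Q) : Subgroup.centralizer ({z} : Set ↥G₀)) : ↥G₀) : X) = _
    rw [MulAut.conjNormal_apply]; rfl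
  have hmem : ∀ {x : X}, x ∈ G₀ → Commute x d → x ∈ C0 G₀ d := fun hx hc =>
    ⟨hx, Subgroup.mem_centralizer_singleton_iff.2 hc.eq⟩
  let H : ↥(C0 G₀ d) := ⟨hX, hmem (h : ↥G₀).2 hhd⟩
  obtain ⟨U, hU⟩ : ∃ U : ↥(C0 G₀ d), U = H * T0 * H⁻¹ := ⟨_, rfl⟩
  obtain ⟨U', hU'⟩ : ∃ U' : ↥(C0 G₀ d), U' = H * U * H⁻¹ := ⟨_, rfl⟩
  have hUX : (U : X) = qX uq := by
    rw [hU, huq, hqconj, Subgroup.coe_mul, Subgroup.coe_mul, Subgroup.coe_inv, hT0]; rfl
  have hU'X : (U' : X) = qX uq' := by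
    rw [hU', huq', hqconj, Subgroup.coe_mul, Subgroup.coe_mul, Subgroup.coe_inv, hUX]
  have hT : T0 ∈ conjugatesOf T0 := mem_conjugatesOf_self
  have hUm : U ∈ conjugatesOf T0 := hU ▸ hE.2.1 H T0 hT
  have hU'm : U' ∈ conjugatesOf T0 := hU' ▸ hE.2.1 H U hUm
  have hsf := sigma_facts
  have hb01 : bp v0 v1 = 0 := hsf.2.2.2.2.2.2.2.2.2.2.2.2.2.2.2.1
  have hb00 : bp v0 v0 = 0 := hsf.2.2.2.2.2.2.2.2.2.2.2.2.2.2.1
  have hb11 : bp v1 v1 = 0 := hsf.2.2.2.2.2.2.2.2.2.2.2.2.2.2.2.2.2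
  have htu : Commute (S.tG : X) (qX uq) := qX_comm_cv S (a := S.t) (by rw [S.cv_t, hhv]; exact hb01)
  have htu' : Commute (S.tG : X) (qX uq') := qX_comm_cv S (a := S.t) (by
    rw [S.cv_t, hcv', bp_add_right, hb00, hb01, add_zero])
  have huu' : Commute (qX uq) (qX uq') := qX_comm_cv S (by
    rw [hhv, hcv', bp_add_right, bp_symm v1 v0, hb01, hb11, add_zero])
  have hv : ∀ {a b : ↥Q}, qX a = qX b → S.cv a = S.cv b := fun h => congrArg S.cv (qX_inj h)
  have hne1 : U ≠ T0 := fun e => by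
    have := hv (hUX.symm.trans ((congrArg Subtype.val e).trans hT0))
    rw [hhv, S.cv_t] at this
    exact hsf.2.2.2.2.2.2.1 this
  have hne2 : U' ≠ T0 := fun e => by
    have := hv (hU'X.symm.trans ((congrArg Subtype.val e).trans hT0))
    rw [hcv', S.cv_t, add_eq_left] at this
    exact hsf.2.2.2.2.2.1 this
  have hne3 : U' ≠ U := fun e => by
    have := hv (hU'X.symm.trans ((congrArg Subtype.val e).trans hUX))
    rw [hcv', hhv, add_eq_right] at this
    exact hsf.2.2.2.2.1 this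
  have hUd : U ∈ dperp (conjugatesOf T0) T0 := ⟨hUm, hne1, Subtype.ext (by
    rw [Subgroup.coe_mul, Subgroup.coe_mul, hT0, hUX]; exact htu.eq)⟩
  have hU'd : U' ∈ dperp (dperp (conjugatesOf T0) T0) U :=
    ⟨⟨hU'm, hne2, Subtype.ext (by rw [Subgroup.coe_mul, Subgroup.coe_mul, hT0, hU'X]; exact htu'.eq)⟩, hne3,
      Subtype.ext (by rw [Subgroup.coe_mul, Subgroup.coe_mul, hUX, hU'X]; exact huu'.eq)⟩
  have htt : (S.tG : X) * (S.tG : X) = 1 := by rw [tX_eq, ← map_mul, S.t_sq, map_one]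
  have hu2 : qX uq * qX uq = 1 := qX_sq S (by rw [hhv]; exact hsf.2.2.2.2.2.2.2.2.2.2.1)
  -- their product is `z`
  have hu' : qX uq' = (S.tG : X) * qX uq * (z : X) := by
    have e : S.cv (S.t * uq) = S.cv uq' := by rw [S.cv_mul, S.cv_t, hhv, hcv']
    rcases qX_cv_congr S e with e1 | e1
    · exfalso
      refine M24Cent.pair_notMem hE h23 hT hUd ?_
      rwa [show T0 * U = U' from Subtype.ext (by rw [Subgroup.coe_mul, hT0, hUX, hU'X, e1, map_mul]; rfl)]
    · rw [e1, map_mul]; rfl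
  have hzC : (z : X) ∈ C0 G₀ d := hmem z.2 hs.commz.symm
  set Z0 : ↥(C0 G₀ d) := ⟨(z : X), hzC⟩ with hZ0
  have hZ : T0 * U * U' = Z0 := Subtype.ext (by
    rw [Subgroup.coe_mul, Subgroup.coe_mul, hT0, hUX, hU'X, hu']
    rw [← mul_assoc, htu.symm.mul_mul_mul_comm, htt, hu2, one_mul, one_mul])
  -- `d * z` is no conjugate
  have hndz : ¬ IsConj d (d * (z : X)) := by
    intro hcj
    obtain ⟨g, hg⟩ := isConj_iff.1 hcj
    haveI : G₀.Normal := Subgroup.normal_of_index_eq_two A.idx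
    have htdz : Commute (S.tG : X) (d * (z : X)) := hdt.symm.mul_right (qX_comm S.t)
    have hτ : g⁻¹ * (S.tG : X) * g ∈ C0 G₀ d := by
      refine hmem ?_ ?_
      · have := (inferInstance : G₀.Normal).conj_mem _ (S.tG).2 g⁻¹
        rwa [inv_inv] at this
      · have := htdz.map (MulAut.conj g⁻¹).toMonoidHom
        simpa [MulAut.conj_apply, ← hg, mul_assoc] using this
    set τ : ↥(C0 G₀ d) := ⟨g⁻¹ * (S.tG : X) * g, hτ⟩ with hτdef
    have hle := M24Cent.card_triple_le hE h23 hT hUd hU'd (τ := τ) (Subtype.ext (by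
        show g⁻¹ * (S.tG : X) * g * (g⁻¹ * (S.tG : X) * g) = 1
        calc g⁻¹ * (S.tG : X) * g * (g⁻¹ * (S.tG : X) * g) = g⁻¹ * ((S.tG : X) * (S.tG : X)) * g := by group
          _ = 1 := by rw [htt, mul_one, inv_mul_cancel]))
      (fun e => by
        have e' : g⁻¹ * (S.tG : X) * g = 1 := congrArg Subtype.val e
        refine S.t_ne.1 (qX_inj ?_)
        rw [map_one, ← tX_eq S]
        calc (S.tG : X) = g * (g⁻¹ * (S.tG : X) * g) * g⁻¹ := by group
          _ = 1 := by rw [e', mul_one, mul_inv_cancel])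
    rw [hZ] at hle
    -- push the centraliser of τ into that of z
    set CZ := Subgroup.centralizer ({Z0} : Set ↥(C0 G₀ d))
    set CT := Subgroup.centralizer ({τ} : Set ↥(C0 G₀ d))
    have key : ∀ x : ↥(C0 G₀ d), x ∈ CT → Commute (g * (x : X) * g⁻¹) (z : X) ∧
        Commute (g * (x : X) * g⁻¹) d ∧ Commute (g * (x : X) * g⁻¹) (S.tG : X) := by
      intro x hx
      have hxd : Commute (x : X) d := Subgroup.mem_centralizer_singleton_iff.1 x.2.2
      have hxτ : Commute (x : X) (g⁻¹ * (S.tG : X) * g) := congrArg Subtype.val (Subgroup.mem_centralizer_singleton_iff.1 hx)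
      have h1 : Commute (g * (x : X) * g⁻¹) (d * (z : X)) := by
        have := hxd.map (MulAut.conj g).toMonoidHom
        simpa [MulAut.conj_apply, hg] using this
      have h2 : Commute (g * (x : X) * g⁻¹) (S.tG : X) := by
        have := hxτ.map (MulAut.conj g).toMonoidHom
        simpa [MulAut.conj_apply, mul_assoc] using this
      have hG : g * (x : X) * g⁻¹ ∈ G₀ := (inferInstance : G₀.Normal).conj_mem _ x.2.1 g
      have h3 := mem_K1_of_dz S A hs hdt hd2 hK (g := ⟨⟨_, hG⟩,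
        Subgroup.mem_centralizer_singleton_iff.2 (Subtype.ext h2.eq)⟩) h1
      refine ⟨?_, h3, h2⟩
      have h4 := h3.mul_right h1
      rwa [← mul_assoc, hdd, one_mul] at h4
    let f : ↥CT → ↥CZ := fun x => ⟨⟨g * ((x : ↥(C0 G₀ d)) : X) * g⁻¹,
      hmem ((inferInstance : G₀.Normal).conj_mem _ (x : ↥(C0 G₀ d)).2.1 g) (key x.1 x.2).2.1⟩,
      Subgroup.mem_centralizer_singleton_iff.2 (Subtype.ext (key x.1 x.2).1.eq)⟩
    have hf : Function.Injective f := fun x y e => by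
      have e' : g * ((x : ↥(C0 G₀ d)) : X) * g⁻¹ = g * ((y : ↥(C0 G₀ d)) : X) * g⁻¹ :=
        congrArg (fun w : ↥CZ => ((w : ↥(C0 G₀ d)) : X)) e
      exact Subtype.ext (Subtype.ext (mul_left_cancel (mul_right_cancel e')))
    have hsur : Function.Surjective f :=
      ((Nat.bijective_iff_injective_and_card _).2 ⟨hf,
        le_antisymm (Nat.card_le_card_of_injective f hf) hle⟩).2
    obtain ⟨x, hx⟩ := hsur ⟨H, Subgroup.mem_centralizer_singleton_iff.2 (Subtype.ext hhz.eq)⟩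
    have e : g * ((x : ↥(C0 G₀ d)) : X) * g⁻¹ = hX := congrArg (fun w : ↥CZ => ((w : ↥(C0 G₀ d)) : X)) hx
    have h5 := (key x.1 x.2).2.2
    rw [e] at h5
    refine hne1 (Subtype.ext ?_)
    rw [hU, Subgroup.coe_mul, Subgroup.coe_mul, Subgroup.coe_inv, hT0]
    show hX * (S.tG : X) * hX⁻¹ = _
    rw [h5.eq, mul_inv_cancel_right]
  -- conjugating by the dual vector
  obtain ⟨-, -, hb0, hb1⟩ := dual_facts
  set j := LargeFischer.lift S.D.F vb with hj
  set j2 : ↥Q := MulAut.conjNormal h j with hj2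
  set j3 : ↥Q := MulAut.conjNormal h j2 with hj3
  have hcj : ∀ {a b : X}, IsConj a b → IsConj (hX * a * hX⁻¹) (hX * b * hX⁻¹) := fun hab =>
    ((isConj_iff.2 ⟨hX, rfl⟩ : IsConj _ _).symm.trans hab).trans (isConj_iff.2 ⟨hX, rfl⟩)
  have hh3 : ∀ w : X, Commute (qX j) w → Commute (qX j3) (hX * (hX * w * hX⁻¹) * hX⁻¹) := by
    intro w hw
    rw [hj3, hqconj, hj2, hqconj]
    simpa [MulAut.conj_apply] using (hw.map (MulAut.conj hX).toMonoidHom).map (MulAut.conj hX).toMonoidHom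
  have hj3u : Commute (qX j3) (qX uq') := by
    rw [huq', hqconj, huq, hqconj]
    exact hh3 _ (qX_comm_cv S (by rw [hj, S.cv_lift, S.cv_t, bp_symm]; exact hb0))
  have hhd' : ∀ w : X, hX * (d * w) * hX⁻¹ = d * (hX * w * hX⁻¹) := fun w => by
    rw [← mul_assoc, show hX * d = d * hX from hhd]; group
  have hsh := shift_eq S A hs (q := j) (by rw [hj, S.cv_lift]; exact hb0) (by rw [hj, S.cv_lift]; exact hb1) hdd
  have hj3d : ∀ w : X, qX j * d * (qX j)⁻¹ = d * w →
      qX j3 * d * (qX j3)⁻¹ = d * (hX * (hX * w * hX⁻¹) * hX⁻¹) := by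
    intro w hw
    rw [hj3, hqconj, hj2, hqconj, ← hhd', ← hhd', ← hw]
    have e : hX⁻¹ * d * hX = d := by rw [mul_assoc, ← show hX * d = d * hX from hhd, inv_mul_cancel_left]
    have e2 : hX⁻¹ * (hX⁻¹ * d * hX) * hX = d := by rw [e, e]
    calc hX * (hX * qX j * hX⁻¹) * hX⁻¹ * d * (hX * (hX * qX j * hX⁻¹) * hX⁻¹)⁻¹
        = hX * (hX * (qX j * (hX⁻¹ * (hX⁻¹ * d * hX) * hX) * (qX j)⁻¹) * hX⁻¹) * hX⁻¹ := by
          simp only [mul_inv_rev, inv_inv, mul_assoc]
      _ = _ := by rw [e2]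
  -- the shift is by `t`
  have hshift : qX j * d * (qX j)⁻¹ = d * (S.tG : X) := by
    refine hsh.resolve_right fun hw => hndz ?_
    have hj3' : qX j3 * d * (qX j3)⁻¹ = d * (qX uq' * (z : X)) := by
      rw [hj3d _ hw, huq', hqconj, huq, hqconj, tX_eq]
      congr 1
      calc hX * (hX * (qX S.t * (z : X)) * hX⁻¹) * hX⁻¹
          = hX * (hX * qX S.t * hX⁻¹) * hX⁻¹ * (hX * (hX * (z : X) * hX⁻¹) * hX⁻¹) := by group
        _ = _ := by rw [hhz.eq, mul_inv_cancel_right, hhz.eq, mul_inv_cancel_right]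
    have hj2d : qX j2 * d * (qX j2)⁻¹ = d * (qX uq * (z : X)) := by
      have e1 : hX * qX S.t * hX⁻¹ * (z : X) = hX * (qX S.t * (z : X)) * hX⁻¹ := by
        rw [show hX * (qX S.t * (z : X)) * hX⁻¹ = hX * qX S.t * hX⁻¹ * (hX * (z : X) * hX⁻¹) by group, hhz.eq,
          mul_inv_cancel_right]
      rw [hj2, huq, hqconj, hqconj, e1, ← hhd', ← tX_eq S, ← hw]
      have e : hX⁻¹ * d * hX = d := by rw [mul_assoc, ← show hX * d = d * hX from hhd, inv_mul_cancel_left]
      calc hX * qX j * hX⁻¹ * d * (hX * qX j * hX⁻¹)⁻¹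
          = hX * (qX j * (hX⁻¹ * d * hX) * (qX j)⁻¹) * hX⁻¹ := by group
        _ = _ := by rw [e]
    have hbj : bp (S.cv j2) (S.cv S.t) = 1 := by
      have hcv2 : S.cv j2 = sm 1 vb := by rw [hj2, S.cv_conj, hhact, hj, S.cv_lift]
      rw [hcv2, S.cv_t]
      decide +kernel
    have hj2z : Commute (qX j2) (z : X) := qX_comm j2
    have hj2t : qX j2 * ((S.tG : X) * (z : X)) * (qX j2)⁻¹ = (S.tG : X) := by
      rw [tX_eq]
      calc qX j2 * (qX S.t * (z : X)) * (qX j2)⁻¹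
          = qX j2 * qX S.t * (qX j2)⁻¹ * (qX j2 * (z : X) * (qX j2)⁻¹) := by group
        _ = _ := by rw [qX_conj_bp S hbj, hj2z.eq, mul_inv_cancel_right, mul_assoc, hz2, mul_one]
    have htz : Commute (S.tG : X) (z : X) := qX_comm S.t
    have e21 : (qX j2 * qX j) * d * (qX j2 * qX j)⁻¹ = d * qX uq' := by
      calc (qX j2 * qX j) * d * (qX j2 * qX j)⁻¹ = qX j2 * (qX j * d * (qX j)⁻¹) * (qX j2)⁻¹ := by group
        _ = (qX j2 * d * (qX j2)⁻¹) * (qX j2 * ((S.tG : X) * (z : X)) * (qX j2)⁻¹) := by rw [hw]; group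
        _ = d * (qX uq * ((z : X) * (S.tG : X))) := by rw [hj2d, hj2t]; group
        _ = _ := by rw [hu', ← htz.eq, ← mul_assoc (qX uq), ← htu.eq]
    refine isConj_iff.2 ⟨qX j3 * (qX j2 * qX j), ?_⟩
    calc qX j3 * (qX j2 * qX j) * d * (qX j3 * (qX j2 * qX j))⁻¹
        = qX j3 * ((qX j2 * qX j) * d * (qX j2 * qX j)⁻¹) * (qX j3)⁻¹ := by group
      _ = (qX j3 * d * (qX j3)⁻¹) * (qX j3 * qX uq' * (qX j3)⁻¹) := by rw [e21]; group
      _ = d * ((qX uq' * (z : X)) * qX uq') := by rw [hj3', hj3u.eq, mul_inv_cancel_right, mul_assoc]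
      _ = _ := by
        rw [mul_assoc (qX uq'), ← (qX_comm uq').eq, ← mul_assoc (qX uq'),
          qX_sq S (by rw [hcv', par_add6, hsf.2.2.2.2.2.2.2.2.2.1, hsf.2.2.2.2.2.2.2.2.2.2.1, hb01, add_zero, add_zero]),
          one_mul]
  have hnotG : ∀ e ∈ conjugatesOf d, e ∉ G₀ := by
    intro e he hG
    obtain ⟨g, rfl⟩ := isConj_iff.1 he
    haveI : G₀.Normal := Subgroup.normal_of_index_eq_two A.idx
    refine hs.notMem ?_
    have := (inferInstance : G₀.Normal).conj_mem _ hG g⁻¹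
    rwa [show g⁻¹ * (g * d * g⁻¹) * g⁻¹⁻¹ = d by group] at this
  ext e
  constructor
  · rintro ⟨heD, hne, hde⟩
    have hτG : d * e ∈ G₀ := by
      rw [Subgroup.mul_mem_iff_of_index_two A.idx]
      exact iff_of_false hs.notMem (hnotG e heD)
    have hee : e * e = 1 := by
      obtain ⟨g, rfl⟩ := isConj_iff.1 heD
      calc g * d * g⁻¹ * (g * d * g⁻¹) = g * (d * d) * g⁻¹ := by group
        _ = 1 := by rw [hdd, mul_one, mul_inv_cancel]
    set τ : ↥(C0 G₀ d) := ⟨d * e, hmem hτG ((Commute.refl d).mul_left hde.symm)⟩ with hτ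
    have hde' : d * (τ : X) = e := by show d * (d * e) = e; rw [← mul_assoc, hdd, one_mul]
    refine ⟨τ, ?_, hde'⟩
    have h2 : τ * τ = 1 := Subtype.ext (by
      show d * e * (d * e) = 1
      rw [hde.symm.mul_mul_mul_comm, hdd, hee, one_mul])
    have h1 : τ ≠ 1 := fun e1 => hne (by
      have e2 : d * (1 : X) = e := by rw [← hde', e1]; rfl
      rw [mul_one] at e2; exact e2.symm)
    rcases M24Cent.involution_cases hE h23 hT hUd hU'd h2 h1 with hc | hc | hc
    · exact hc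
    · exfalso
      obtain ⟨c, hc⟩ := isConj_iff.1 hc
      have hcd : Commute (c : X) d := Subgroup.mem_centralizer_singleton_iff.1 c.2.2
      refine hndz ?_
      -- the pair is the third element times `z`
      have hp : ((T0 * U : ↥(C0 G₀ d)) : X) = qX uq' * (z : X) := by
        rw [Subgroup.coe_mul, hT0, hUX, hu', mul_assoc, hz2, mul_one]
      have hc' : (c : X) * e * (c : X)⁻¹ = d * (qX uq' * (z : X)) := by
        rw [← hp, ← hc, Subgroup.coe_mul, Subgroup.coe_mul, Subgroup.coe_inv, ← hde', ← mul_assoc, hcd.eq]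
        group
      have hd3 : qX j3 * d * (qX j3)⁻¹ = d * qX uq' := by
        rw [hj3d _ hshift, huq', hqconj, huq, hqconj]; rfl
      have hback : qX j3 * (d * (z : X)) * (qX j3)⁻¹ = d * (qX uq' * (z : X)) := by
        calc qX j3 * (d * (z : X)) * (qX j3)⁻¹ = qX j3 * d * (qX j3)⁻¹ * (qX j3 * (z : X) * (qX j3)⁻¹) := by group
          _ = _ := by rw [hd3, (qX_comm j3).eq, mul_inv_cancel_right, mul_assoc]
      exact (IsConj.trans heD (isConj_iff.2 ⟨_, hc'⟩)).trans (isConj_iff.2 ⟨_, hback⟩ : IsConj _ _).symm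
    · exfalso
      obtain ⟨c, hc⟩ := isConj_iff.1 hc
      have hcd : Commute (c : X) d := Subgroup.mem_centralizer_singleton_iff.1 c.2.2
      refine hndz (IsConj.trans heD (isConj_iff.2 ⟨(c : X), ?_⟩))
      rw [show (z : X) = ((T0 * U * U' : ↥(C0 G₀ d)) : X) by rw [hZ], ← hc, Subgroup.coe_mul, Subgroup.coe_mul,
        Subgroup.coe_inv, ← hde', ← mul_assoc, hcd.eq]
      group
  · rintro ⟨τ, hτ, rfl⟩
    obtain ⟨c, hc⟩ := isConj_iff.1 hτ
    have hcd : Commute (c : X) d := Subgroup.mem_centralizer_singleton_iff.1 c.2.2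
    have hτd : Commute (τ : X) d := Subgroup.mem_centralizer_singleton_iff.1 τ.2.2
    refine ⟨isConj_iff.2 ⟨(c : X) * qX j, ?_⟩, fun e => ?_, (Commute.refl d).mul_right hτd.symm⟩
    · calc (c : X) * qX j * d * ((c : X) * qX j)⁻¹ = (c : X) * (qX j * d * (qX j)⁻¹) * (c : X)⁻¹ := by group
        _ = d * ((c : X) * (T0 : X) * (c : X)⁻¹) := by rw [hshift, hT0, ← mul_assoc, hcd.eq]; group
        _ = d * ((c * T0 * c⁻¹ : ↥(C0 G₀ d)) : X) := by rw [Subgroup.coe_mul, Subgroup.coe_mul, Subgroup.coe_inv]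
        _ = _ := by rw [hc]
    · have h1 : (τ : X) = 1 := mul_eq_left.1 e
      have h2 := hcls.1.1 τ hτ
      rw [show τ = 1 from Subtype.ext h1, orderOf_one] at h2
      omega

end Cfsg.Agent.LargeFischerAut
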