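import Cfsg.Agent.LargeFischerAut.M24Pair
import Cfsg.Agent.M24Cent.Transfer24
import Cfsg.Agent.FischerTypes.M24
import Cfsg.Agent.M22Cent.Result
import Cfsg.Agent.M24Cent.Embed
import Cfsg.Agent.M24Cent.Main

/-! The group is `Fi₂₄`. -/

set_option autoImplicit false
set_option maxRecDepth 20000
set_option Elab.async false

open Finset Cfsg Cfsg.Agent
open Cfsg.Agent.ThreeTrans (dperp)

namespace Cfsg.Agent.LargeFischerAut

open Cfsg.Agent.LargeFischer hiding v1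
open Fi22Aut

universe v

variable {X : Type v} [Group X] [Finite X] {G₀ : Subgroup X} {z : ↥G₀}
  {Q : Subgroup (Subgroup.centralizer ({z} : Set ↥G₀))} [Q.Normal]

theorem m24_result (hidx : G₀.index = 2) (hF : IsOfLargeFischerTypeAt z Q)
    (hcentral : ∃ P : Sylow 2 ↥G₀, z ∈ (P : Subgroup ↥G₀) ∧ ∀ x ∈ (P : Subgroup ↥G₀), Commute x z)
    (hFX : (Cfsg.generalizedFittingSubgroup ↥(Subgroup.centralizer ({(z : X)} : Set X))).map (Subgroup.subtype _) =
      ((Q.map (Subgroup.subtype _)).map G₀.subtype)) :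
    ∃ E : Set X, Cfsg.IsThreeTranspositionClass E ∧ Cfsg.IsOfTypeM24 X E := by
  obtain ⟨S⟩ := Cfsg.Agent.Fi22Aut.exists_setup (z := z) (Q := Q) hF
  obtain ⟨eK⟩ := S.Kb_iso Cfsg.Agent.LargeFischerAut.recognition
  have A := amb_of hidx hFX
  obtain ⟨y, hyG, hyz, hyt⟩ := exists_outer A S hcentral
  obtain ⟨d, hs, hdt, hd2, hK⟩ := exists_sieg A S eK hyG hyz hyt
  set T0 : ↥(C0 G₀ d) := ⟨(S.tG : X), S.tG.2, Subgroup.mem_centralizer_singleton_iff.2 hdt.symm⟩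
  obtain ⟨ho, hq, ⟨hn, ⟨f⟩⟩, hnwc⟩ := main A S eK hs hdt hK T0 rfl
  haveI := hn
  obtain ⟨h3, h4⟩ := Cfsg.Agent.S5402.result T0 ho hq (type22 f) (invol22 f) hnwc
  obtain ⟨σ, hL, hdd', hσ⟩ := m24_data S A hs hdt hd2 hK T0 rfl h3 h4
  have hdd : d * d = 1 := by rw [← sq, ← hd2]; exact pow_orderOf_eq_one d
  have hab : d * (d * (S.tG : X)) = (S.tG : X) := by rw [← mul_assoc, hdd, one_mul]
  obtain ⟨phi, hinj, hphi⟩ := hL.exists_embed (pair_det S eK A hs hdt hd2 hK T0 rfl h3 h4 hσ)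
    (mem_conjugatesOf_self : d ∈ conjugatesOf d)
  have hz1 : (z : X) ≠ 1 := fun h => S.ζ_ne (qX_inj (by rw [qX_ζ, h, map_one]))
  have hr := M24Cent.range_eq_top hL phi hinj hphi (qX (Q := Q)).range mem_conjugatesOf_self hdd' (z_sq S) hz1
    ((hσ _).2 z.2) hs.commz (by rw [hab]; exact t_not_conj_z S A hdt hs.notMem) ⟨S.ζ, qX_ζ S⟩
    (by rintro _ ⟨q, rfl⟩; exact q_shift_comm S A hs hd2 q)
    (fun x hx => by rw [hab] at hx; exact cent_t_le S A hs hK x hdt hx)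
    (fun x hx _ => by
      rw [hab]
      obtain ⟨q', hq'⟩ := A.norm x hx S.t
      exact ⟨q', hq'⟩)
  let e : Fi24.G ≃* X := MulEquiv.ofBijective phi ⟨hinj, MonoidHom.range_eq_top.1 hr⟩
  exact ⟨e '' Fi24.D, M22Cent.class_transfer e Fi24.three_class,
    M24Cent.m24_transfer e FischerTypes.F24.isM24⟩

end Cfsg.Agent.LargeFischerAut
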