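import Cfsg.Agent.LargeFischerAut.Main
import Cfsg.Agent.M24Cent.Type23

/-! The conjugates of the outer involution near it. -/

set_option autoImplicit false
set_option maxRecDepth 20000
set_option Elab.async false

open Finset Cfsg Cfsg.Agent
open Cfsg.Agent.ThreeTrans (dperp)

namespace Cfsg.Agent.LargeFischerAut

open Cfsg.Agent.LargeFischer hiding v1
open Fi22Aut

universe v

variable {X : Type v} [Group X] [Finite X] {G₀ : Subgroup X} {z : ↥G₀}
  {Q : Subgroup (Subgroup.centralizer ({z} : Set ↥G₀))} [Q.Normal]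

/-- the inner centraliser of an element -/
abbrev C0 (G₀ : Subgroup X) (d : X) : Subgroup X := G₀ ⊓ Subgroup.centralizer ({d} : Set X)

omit [Q.Normal] [Finite X] in
theorem qX_mem (q : ↥Q) : qX q ∈ G₀ := ((q : Subgroup.centralizer ({z} : Set ↥G₀)) : ↥G₀).2

variable (S : Setup z Q) {d : X}

theorem qX_cv_congr {a b : ↥Q} (h : S.cv a = S.cv b) : qX b = qX a ∨ qX b = qX a * (z : X) := by
  rcases S.cv_congr h with e | e
  · exact Or.inl (by rw [e])
  · exact Or.inr (by rw [e, map_mul, qX_ζ])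

theorem qX_comm_cv {a b : ↥Q} (h : bp (S.cv a) (S.cv b) = 0) : Commute (qX a) (qX b) :=
  (show Commute a b from (S.comm_cv a b).2 h).map qX

theorem qX_conj_bp {a b : ↥Q} (h : bp (S.cv a) (S.cv b) = 1) :
    qX a * qX b * (qX a)⁻¹ = qX b * (z : X) := by
  rw [← map_inv, ← map_mul, ← map_mul, S.conj_of_bp h, map_mul, qX_ζ]

theorem qX_sq {a : ↥Q} (h : par (S.cv a) = 0) : qX a * qX a = 1 := by
  rw [← map_mul, (sq_iff S.D.b S.D.F (S.mk_cv a)).2 h, map_one]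

theorem z_sq (S : Setup z Q) : (z : X) * (z : X) = 1 := by rw [← qX_ζ S, ← map_mul, S.ζ_sq, map_one]

omit [Finite X] [Q.Normal] in
theorem not_conj_outer (A : Amb z Q) {x : X} (hd : d ∉ G₀) {a : X} (ha : Commute d a)
    (h : x * a * x⁻¹ = (z : X)) : ∃ y : ↥G₀, (y : X) * a * (y : X)⁻¹ = (z : X) := by
  by_cases hx : x ∈ G₀
  · exact ⟨⟨x, hx⟩, h⟩
  · refine ⟨⟨x * d, by rw [Subgroup.mul_mem_iff_of_index_two A.idx]; exact iff_of_false hx hd⟩, ?_⟩
    rw [← h]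
    show x * d * a * (x * d)⁻¹ = x * a * x⁻¹
    calc x * d * a * (x * d)⁻¹ = x * (d * a) * d⁻¹ * x⁻¹ := by group
      _ = _ := by rw [ha.eq]; group

/-- the elements over `v0` are not conjugate to `z`, even outside -/
theorem not_conj_v0 (A : Amb z Q) (hd : d ∉ G₀) {r : ↥Q} (hr : S.cv r = v0) (hdr : Commute d (qX r)) :
    ¬ IsConj (qX r) (z : X) := fun h => by
  obtain ⟨x, hx⟩ := isConj_iff.1 h
  obtain ⟨y, hy⟩ := not_conj_outer A hd hdr hx
  refine S.not_conj (r := r) (by rw [hr]; exact sigma_facts.2.2.2.2.2.2.2.2.2.2.2.2.2.1)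
    (by rw [hr]; exact sigma_facts.2.2.2.2.2.2.2.2.2.1) (IsConj.symm (isConj_iff.2 ⟨y, Subtype.ext ?_⟩))
  exact hy

variable (A : Amb z Q) (hs : Sieg S d) (hdt : Commute d (S.tG : X)) (hd2 : orderOf d = 2)
  (hK : ∀ k ∈ S.K1, Commute d (((k : ↥S.Cg) : ↥G₀) : X))

omit [Finite X] in
theorem tX_eq : (S.tG : X) = qX S.t := rfl

include A hdt in
theorem t_not_conj_z (hd : d ∉ G₀) : ¬ IsConj (S.tG : X) (z : X) := not_conj_v0 S A hd S.cv_t hdt

include A hs in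
/-- the shift by a dual vector -/
theorem shift_eq {q : ↥Q} (h0 : bp v0 (S.cv q) = 0) (h1 : bp v1 (S.cv q) = 1) (hdd : d * d = 1) :
    qX q * d * (qX q)⁻¹ = d * (S.tG : X) ∨ qX q * d * (qX q)⁻¹ = d * ((S.tG : X) * (z : X)) := by
  have hm : S.cv (hs.dQ A q * q⁻¹) = S.cv S.t := by
    rw [S.cv_mul, S.cv_inv, add_comm, S.cv_t]
    refine (hs.m_formula A q).trans ?_
    rw [h0, h1, vv_facts.1]; rfl
  have hdi : d⁻¹ = d := inv_eq_of_mul_eq_one_left hdd
  have e : qX q * d * (qX q)⁻¹ = d * qX (hs.dQ A q * q⁻¹) := by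
    rw [map_mul, map_inv, show qX (hs.dQ A q) = d * qX q * d⁻¹ from act_spec A hs.commz q, hdi,
      ← mul_assoc, ← mul_assoc, ← mul_assoc, hdd, one_mul]
  rcases qX_cv_congr S hm.symm with h | h
  · exact Or.inl (by rw [e, h]; rfl)
  · exact Or.inr (by rw [e, h]; rfl)

include A hs hdt hd2 hK in
/-- the outer elements over the centraliser of `t` do not commute with `d * z` -/
theorem mem_K1_of_dz {g : ↥S.Cg} (hg : Commute ((g : ↥G₀) : X) (d * (z : X))) : Commute ((g : ↥G₀) : X) d := by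
  by_contra hnd
  have hgK : g ∉ S.K1 := fun h => hnd (hK g h).symm
  obtain ⟨-, -, hb0, hb1⟩ := dual_facts
  set q := LargeFischer.lift S.D.F vb with hq
  have hq0 : q ∈ S.CQ := S.mem_CQ.2 (by rw [hq, S.cv_lift]; exact hb0)
  have hq1 : S.qb ⟨q, hq0⟩ ∉ S.Kb := by
    rw [S.qb_Kb_iff]
    show ¬ bp v1 (S.cv q) = 0
    rw [hq, S.cv_lift, hb1]; exact one_ne_zero
  have hp : S.ι (S.jt ⟨q, hq0⟩) * g ∈ S.K1 := by
    show S.π (_ * g) ∈ S.Kb
    rw [map_mul, Subgroup.mul_mem_iff_of_index_two S.Kb_index]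
    exact iff_of_false hq1 hgK
  have h1 : Commute d (qX q * ((g : ↥G₀) : X)) := hK _ hp
  have hdd : d * d = 1 := by rw [← sq, ← hd2]; exact pow_orderOf_eq_one d
  set gX : X := ((g : ↥G₀) : X) with hgX
  have hbc : bp v0 (S.cv q⁻¹) = 0 ∧ bp v1 (S.cv q⁻¹) = 1 := by
    rw [S.cv_inv, hq, S.cv_lift]; exact ⟨hb0, hb1⟩
  have e1 : gX * d * gX⁻¹ = (qX q)⁻¹ * d * qX q := by
    calc gX * d * gX⁻¹ = (qX q)⁻¹ * (qX q * gX * d) * gX⁻¹ := by group
      _ = (qX q)⁻¹ * (d * (qX q * gX)) * gX⁻¹ := by rw [h1.eq]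
      _ = _ := by group
  have e3 : gX * d * gX⁻¹ * (gX * (z : X) * gX⁻¹) = d * (z : X) := by
    rw [show gX * d * gX⁻¹ * (gX * (z : X) * gX⁻¹) = gX * (d * (z : X)) * gX⁻¹ by group, hg.eq,
      mul_inv_cancel_right]
  have hsh := shift_eq S A hs hbc.1 hbc.2 hdd
  rw [map_inv, inv_inv, ← e1] at hsh
  have hr : S.cv (S.t * S.ζ) = v0 := by rw [S.cv_mul, S.cv_ζ, add_zero, S.cv_t]
  have htz : Commute (S.tG : X) (z : X) := qX_comm S.t
  have htt : (S.tG : X) * (S.tG : X) = 1 := by rw [tX_eq, ← map_mul, S.t_sq, map_one]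
  rcases hsh with h | h
  · refine not_conj_v0 S A hs.notMem hr (by rw [map_mul, qX_ζ]; exact hdt.mul_right hs.commz)
      (IsConj.symm (isConj_iff.2 ⟨gX, ?_⟩))
    rw [h, mul_assoc] at e3
    have e4 := mul_left_cancel e3
    rw [map_mul, qX_ζ, ← tX_eq S]
    calc gX * (z : X) * gX⁻¹ = (S.tG : X) * ((S.tG : X) * (gX * (z : X) * gX⁻¹)) := by
          rw [← mul_assoc, htt, one_mul]
      _ = _ := by rw [e4]
  · refine not_conj_v0 S A hs.notMem S.cv_t hdt (IsConj.symm (isConj_iff.2 ⟨gX, ?_⟩))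
    rw [h, mul_assoc] at e3
    have e4 := mul_left_cancel e3
    have hz2 := z_sq S
    calc gX * (z : X) * gX⁻¹
        = (S.tG : X) * (z : X) * ((S.tG : X) * (z : X) * (gX * (z : X) * gX⁻¹)) := by
          rw [← mul_assoc _ _ (gX * (z : X) * gX⁻¹), htz.symm.mul_mul_mul_comm, htt, hz2, one_mul, one_mul]
      _ = (S.tG : X) * (z : X) * (z : X) := by rw [e4]
      _ = _ := by rw [mul_assoc, hz2, mul_one]; rfl

end Cfsg.Agent.LargeFischerAut
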