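import Cfsg.Agent.LargeFischerAut.M24Inst

/-! A product of two commuting conjugates determines them. -/

set_option autoImplicit false
set_option maxRecDepth 20000
set_option Elab.async false

open Finset Cfsg Cfsg.Agent
open Cfsg.Agent.ThreeTrans (dperp)

namespace Cfsg.Agent.LargeFischerAut

open Cfsg.Agent.LargeFischer hiding v1
open Fi22Aut

universe v

variable {X : Type v} [Group X] [Finite X] {G₀ : Subgroup X} {z : ↥G₀}
  {Q : Subgroup (Subgroup.centralizer ({z} : Set ↥G₀))} [Q.Normal]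
variable (S : Setup z Q) (eK : ↥S.Kb ≃* Cfsg.Spor.Fi22) {d : X} (A : Amb z Q) (hs : Sieg S d)
  (hdt : Commute d (S.tG : X)) (hd2 : orderOf d = 2)
  (hK : ∀ k ∈ S.K1, Commute d (((k : ↥S.Cg) : ↥G₀) : X))

include eK A hs hdt hd2 hK in
theorem pair_det_base {y : X} (hy : y ∈ G₀) (hyt : Commute y (S.tG : X)) :
    y * d * y⁻¹ = d ∨ y * d * y⁻¹ = d * (S.tG : X) := by
  haveI : G₀.Normal := Subgroup.normal_of_index_eq_two A.idx
  haveI : S.Kb.Normal := Subgroup.normal_of_index_eq_two S.Kb_index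
  have hdd : d * d = 1 := by rw [← sq, ← hd2]; exact pow_orderOf_eq_one d
  let yC : ↥S.Cg := ⟨⟨y, hy⟩, Subgroup.mem_centralizer_singleton_iff.2 (Subtype.ext hyt.eq)⟩
  have hxG : d * (y * d * y⁻¹) ∈ G₀ := by
    rw [show d * (y * d * y⁻¹) = d * y * d * y⁻¹ by group]
    refine G₀.mul_mem ?_ (G₀.inv_mem hy)
    rw [show d * y * d = d * y * d⁻¹ by rw [inv_eq_of_mul_eq_one_left hdd]]
    exact (inferInstance : G₀.Normal).conj_mem _ hy d
  have hxt : Commute (d * (y * d * y⁻¹)) (S.tG : X) :=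
    hdt.mul_left ((hyt.mul_left hdt).mul_left hyt.inv_left)
  let xC : ↥S.Cg := ⟨⟨_, hxG⟩, Subgroup.mem_centralizer_singleton_iff.2 (Subtype.ext hxt.eq)⟩
  have hcz : S.π xC = 1 := S.cent_Kb eK fun k hk => by
    obtain ⟨k, rfl⟩ := QuotientGroup.mk'_surjective S.Nt k
    rw [← map_mul, ← map_mul]
    refine congrArg S.π (Subtype.ext (Subtype.ext ?_))
    have hk' : yC⁻¹ * k * yC ∈ S.K1 := by
      show S.π (yC⁻¹ * k * yC) ∈ S.Kb
      rw [map_mul, map_mul, map_inv]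
      have := (inferInstance : S.Kb.Normal).conj_mem _ hk (S.π yC)⁻¹
      rwa [inv_inv] at this
    have h1 : Commute d ((k : ↥G₀) : X) := hK k hk
    have h2 : Commute d (y⁻¹ * ((k : ↥G₀) : X) * y) := hK _ hk'
    have h3 : Commute (y * d * y⁻¹) ((k : ↥G₀) : X) := by
      have := h2.map (MulAut.conj y).toMonoidHom
      simpa [MulAut.conj_apply, mul_assoc] using this
    exact (h1.mul_left h3).eq
  rcases S.pow_t (Subgroup.mem_subgroupOf.1 ((QuotientGroup.eq_one_iff _).1 hcz)) with e1 | e1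
  · left
    have e : d * (y * d * y⁻¹) = 1 := congrArg Subtype.val e1
    rw [← inv_eq_of_mul_eq_one_right e, inv_eq_of_mul_eq_one_left hdd]
  · right
    have e : d * (y * d * y⁻¹) = (S.tG : X) := congrArg Subtype.val e1
    rw [← e, ← mul_assoc, hdd, one_mul]

variable (T0 : ↥(C0 G₀ d)) (hT0 : (T0 : X) = (S.tG : X))
  (hcls : IsThreeTranspositionClass (conjugatesOf T0)) (h23 : IsOfTypeM23 ↥(C0 G₀ d) (conjugatesOf T0))

include eK A hs hdt hd2 hK hT0 hcls h23 in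
theorem pair_det {σ : X →* ℤˣ} (hσ : ∀ x, σ x = 1 ↔ x ∈ G₀) :
    ∀ a ∈ conjugatesOf d, ∀ b ∈ dperp (conjugatesOf d) a, ∀ y : X, σ y = 1 → Commute y (a * b) →
      y * a * y⁻¹ = a ∨ y * a * y⁻¹ = b := by
  intro a ha b hb y hy hyab
  haveI : G₀.Normal := Subgroup.normal_of_index_eq_two A.idx
  obtain ⟨g, hg⟩ := isConj_iff.1 (IsConj.symm ha)
  have hb' := ThreeTrans.dperp_conj (D := conjugatesOf d) (fun k e he => IsConj.trans he (isConj_iff.2 ⟨k, rfl⟩)) g hb
  rw [hg, layer S A hs hdt hd2 hK T0 hT0 hcls h23] at hb'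
  obtain ⟨τ, hτ, eb⟩ := hb'
  obtain ⟨c, hc⟩ := isConj_iff.1 hτ
  have hcd : Commute (c : X) d := Subgroup.mem_centralizer_singleton_iff.1 c.2.2
  set k : X := (c : X)⁻¹ * g with hk
  have hka : k * a * k⁻¹ = d := by
    calc k * a * k⁻¹ = (c : X)⁻¹ * (g * a * g⁻¹) * (c : X) := by rw [hk]; group
      _ = d := by rw [hg, hcd.inv_left.eq, inv_mul_cancel_right]
  have hkb : k * b * k⁻¹ = d * (S.tG : X) := by
    have eb' : d * (τ : X) = g * b * g⁻¹ := eb
    calc k * b * k⁻¹ = (c : X)⁻¹ * (g * b * g⁻¹) * (c : X) := by rw [hk]; group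
      _ = (c : X)⁻¹ * d * ((c : X) * (T0 : X) * (c : X)⁻¹) * (c : X) := by
        rw [← eb', ← hc, Subgroup.coe_mul, Subgroup.coe_mul, Subgroup.coe_inv]; group
      _ = _ := by rw [hcd.inv_left.eq, hT0]; group
  have hyG : k * y * k⁻¹ ∈ G₀ := (inferInstance : G₀.Normal).conj_mem _ ((hσ y).1 hy) k
  have hyt : Commute (k * y * k⁻¹) (S.tG : X) := by
    have h1 := hyab.map (MulAut.conj k).toMonoidHom
    have h2 : (MulAut.conj k).toMonoidHom (a * b) = (S.tG : X) := by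
      show k * (a * b) * k⁻¹ = _
      rw [show k * (a * b) * k⁻¹ = k * a * k⁻¹ * (k * b * k⁻¹) by group, hka, hkb, ← mul_assoc, ← sq, ← hd2,
        pow_orderOf_eq_one, one_mul]
    rw [h2] at h1
    exact h1
  have e3 : k * (y * a * y⁻¹) * k⁻¹ = k * y * k⁻¹ * d * (k * y * k⁻¹)⁻¹ := by rw [← hka]; group
  rcases pair_det_base S eK A hs hdt hd2 hK hyG hyt with e | e
  · rw [e, ← hka] at e3
    exact Or.inl (mul_left_cancel (mul_right_cancel e3))
  · rw [e, ← hkb] at e3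
    exact Or.inr (mul_left_cancel (mul_right_cancel e3))

end Cfsg.Agent.LargeFischerAut
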