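import Cfsg.Agent.LargeFischerAut.Outer
import Cfsg.Agent.LargeFischerAut.Fi22Facts
import Cfsg.Agent.S3232
import Cfsg.Agent.S5402

/-! An outer involution with centraliser of type `M(23)`. -/

set_option autoImplicit false
set_option maxRecDepth 20000
set_option Elab.async false

open Finset Cfsg Cfsg.Agent
open scoped commutatorElement

namespace Cfsg.Agent.LargeFischerAut

open Cfsg.Agent.LargeFischer hiding v1
open Fi22Aut

universe v

theorem recognition : Fi22Aut.Recognition.{v} := by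
  intro P _ _ z hz A E hAE hA hE hEc zc hzc hJ hC ⟨e⟩
  rcases Cfsg.Agent.S3232.result z hz (F := ZMod 3) (ZMod.card 3) (K := ThreeTrans.SU32.F4) ThreeTrans.SU32.F4.card_eq
    A E hAE hA hE hEc zc hzc hJ hC e with h | ⟨z₁, h1, h2, h3, h4, -⟩ | h
  · exact Or.inl h
  · exact Or.inr (Or.inl ⟨z₁, h1, h2, h3, h4⟩)
  · exact Or.inr (Or.inr h)

variable {X : Type v} [Group X] [Finite X] {G₀ : Subgroup X} {z : ↥G₀}
  {Q : Subgroup (Subgroup.centralizer ({z} : Set ↥G₀))} [Q.Normal]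

/-- some element outside centralises `z` and the chosen involution -/
theorem exists_outer (A : Amb z Q) (S : Setup z Q)
    (hcentral : ∃ P : Sylow 2 ↥G₀, z ∈ (P : Subgroup ↥G₀) ∧ ∀ x ∈ (P : Subgroup ↥G₀), Commute x z) :
    ∃ y : X, y ∉ G₀ ∧ Commute y (z : X) ∧ Commute y (S.tG : X) := by
  haveI : G₀.Normal := Subgroup.normal_of_index_eq_two A.idx
  haveI : Fact (Nat.Prime 2) := ⟨Nat.prime_two⟩
  obtain ⟨P, hzP, hPz⟩ := hcentral
  obtain ⟨a, ha⟩ := Subgroup.index_eq_two_iff.1 A.idx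
  have haG : a ∉ G₀ := fun h => by
    have := ha 1
    rw [one_mul] at this
    rcases this with ⟨-, h'⟩ | ⟨-, h'⟩
    · exact h' G₀.one_mem
    · exact h' h
  set φ : MulAut ↥G₀ := MulAut.conjNormal a with hφ
  have hφX : ∀ g : ↥G₀, ((φ g : ↥G₀) : X) = a * g * a⁻¹ := fun g => by rw [hφ, MulAut.conjNormal_apply]
  set P' : Sylow 2 ↥G₀ := P.mapSurjective φ.surjective (f := φ.toMonoidHom) with hP'
  obtain ⟨g, hg⟩ := MulAction.exists_smul_eq ↥G₀ P' P
  have hPP : ∀ y, y ∈ (P : Subgroup ↥G₀) → ∃ x ∈ (P : Subgroup ↥G₀), y = g * φ x * g⁻¹ := by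
    intro y hy
    rw [← hg, Sylow.coe_subgroup_smul, Subgroup.mem_pointwise_smul_iff_inv_smul_mem] at hy
    obtain ⟨x, hx, hxy⟩ := hy
    refine ⟨x, hx, ?_⟩
    rw [show φ x = g⁻¹ * y * g by simpa using hxy]
    group
  set z1 : ↥G₀ := g * φ z * g⁻¹ with hz1
  have hz1P : ∀ y ∈ (P : Subgroup ↥G₀), Commute y z1 := by
    intro y hy
    obtain ⟨x, hx, rfl⟩ := hPP y hy
    show g * φ x * g⁻¹ * (g * φ z * g⁻¹) = g * φ z * g⁻¹ * (g * φ x * g⁻¹)
    calc g * φ x * g⁻¹ * (g * φ z * g⁻¹) = g * φ (x * z) * g⁻¹ := by rw [map_mul]; group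
      _ = g * φ (z * x) * g⁻¹ := by rw [(hPz x hx).eq]
      _ = _ := by rw [map_mul]; group
  have hQP : ∀ q : ↥Q, ((q : Subgroup.centralizer ({z} : Set ↥G₀)) : ↥G₀) ∈ (P : Subgroup ↥G₀) := by
    have hPC : (P : Subgroup ↥G₀) ≤ (Subgroup.centralizer ({z} : Set ↥G₀)) := fun x hx => Subgroup.mem_centralizer_singleton_iff.2 (hPz x hx)
    have h1 : IsPGroup 2 ↥((P : Subgroup ↥G₀).subgroupOf (Subgroup.centralizer ({z} : Set ↥G₀))) :=
      P.2.of_equiv (Subgroup.subgroupOfEquivOfLe hPC).symm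
    have h2 : IsPGroup 2 ↥Q := IsPGroup.of_card S.D.b.card
    have h3 := ((h2.to_sup_of_normal_left h1).map (Subgroup.centralizer ({z} : Set ↥G₀)).subtype)
    have h4 : (P : Subgroup ↥G₀) ≤ (Q ⊔ (P : Subgroup ↥G₀).subgroupOf (Subgroup.centralizer ({z} : Set ↥G₀))).map (Subgroup.centralizer ({z} : Set ↥G₀)).subtype := fun x hx =>
      ⟨⟨x, hPC hx⟩, Subgroup.mem_sup_right hx, rfl⟩
    intro q
    rw [← P.is_maximal' h3 h4]
    exact ⟨q.1, Subgroup.mem_sup_left q.2, rfl⟩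
  have hz1z : z1 = z := by
    have hc : z1 ∈ Subgroup.centralizer ({z} : Set ↥G₀) :=
      Subgroup.mem_centralizer_singleton_iff.2 (hz1P z hzP).eq.symm
    have hQ : (⟨z1, hc⟩ : Subgroup.centralizer ({z} : Set ↥G₀)) ∈ Q :=
      cent_le S.D.b fun q hq => Subtype.ext (hz1P _ (hQP ⟨q, hq⟩)).eq.symm
    have hcen : (⟨_, hQ⟩ : ↥Q) ∈ Subgroup.center ↥Q :=
      Subgroup.mem_center_iff.2 fun q => Subtype.ext (Subtype.ext (hz1P _ (hQP q)).eq)
    rcases (center_iff S.D.b).1 hcen with e | e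
    · exfalso
      have e' : z1 = 1 := congrArg (fun q : ↥Q => ((q : Subgroup.centralizer ({z} : Set ↥G₀)) : ↥G₀)) e
      rw [hz1, conj_eq_one_iff, MulEquiv.map_eq_one_iff] at e'
      have h := S.D.b.hz
      rw [e', orderOf_one] at h
      omega
    · exact congrArg Subtype.val e
  set y0 : X := (g : X) * a with hy0
  have hy0G : y0 ∉ G₀ := fun h => haG ((Subgroup.mul_mem_cancel_left G₀ g.2).1 h)
  have hy0z : Commute y0 (z : X) := by
    have e := congrArg Subtype.val hz1z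
    rw [hz1, Subgroup.coe_mul, Subgroup.coe_mul, Subgroup.coe_inv, hφX] at e
    refine mul_inv_eq_iff_eq_mul.1 ?_
    refine Eq.trans ?_ e
    rw [hy0]
    group
  set t' : ↥Q := act A hy0z S.t with ht'
  have hncz : ¬ IsConj z ((t' : Subgroup.centralizer ({z} : Set ↥G₀)) : ↥G₀) := by
    intro h
    obtain ⟨k, hk⟩ := isConj_iff.1 h
    refine S.not_conj (r := S.t) (by rw [S.cv_t]; exact sigma_facts.2.2.2.2.2.2.2.2.2.2.2.2.2.1)
      (by rw [S.cv_t]; exact sigma_facts.2.2.2.2.2.2.2.2.2.1) (isConj_iff.2 ?_)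
    have hmem : y0⁻¹ * (k : X) * y0 ∈ G₀ := by
      have := (inferInstance : G₀.Normal).conj_mem _ k.2 y0⁻¹
      rwa [inv_inv] at this
    refine ⟨⟨_, hmem⟩, Subtype.ext ?_⟩
    have hk' : (k : X) * z * (k : X)⁻¹ = y0 * qX S.t * y0⁻¹ := (congrArg Subtype.val hk).trans (act_spec A hy0z S.t)
    show y0⁻¹ * (k : X) * y0 * z * (y0⁻¹ * (k : X) * y0)⁻¹ = qX S.t
    calc y0⁻¹ * (k : X) * y0 * z * (y0⁻¹ * (k : X) * y0)⁻¹
        = y0⁻¹ * ((k : X) * (y0 * z * y0⁻¹) * (k : X)⁻¹) * y0 := by group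
      _ = y0⁻¹ * ((k : X) * z * (k : X)⁻¹) * y0 := by rw [hy0z.eq, mul_inv_cancel_right]
      _ = _ := by rw [hk']; group
  have ht'2 : t' * t' = 1 := by rw [ht', ← map_mul, S.t_sq, map_one]
  obtain ⟨w, hw, hp, hmk⟩ := S.D.mem_class (x := t'.1) t'.2
    (congrArg (fun q : ↥Q => ((q : Subgroup.centralizer ({z} : Set ↥G₀)) : ↥G₀)) ht'2)
    (fun e => S.t_ne.1 (act_inj A hy0z (by
      rw [map_one]; exact Subtype.ext (Subtype.ext e))))
    (fun e => hncz (by rw [e]))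
  have hA : InA S.D.c w := by
    by_contra h
    exact hncz (S.D.conj_of_not_inA S.hF hmk hw hp h)
  have hv0 : srep 0 ≠ 0 ∧ par (srep 0) = 0 := ⟨sigma_facts.2.2.2.2.1, sigma_facts.2.2.2.2.2.2.2.2.2.1⟩
  obtain ⟨h, hh⟩ := S.D.orbit_conj ((S.D.orb_iff (srep 0) hv0.1 hv0.2 w).2 ⟨hw, hp, iff_of_true hA (Or.inl (sc_srep 0))⟩)
    hw S.ht hmk
  set hX : X := ((h : ↥G₀) : X) with hhX
  have hhz : Commute hX (z : X) := congrArg Subtype.val (Subgroup.mem_centralizer_singleton_iff.1 h.2)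
  have hht : hX * (S.tG : X) * hX⁻¹ = y0 * (S.tG : X) * y0⁻¹ :=
    (congrArg (fun q : Subgroup.centralizer ({z} : Set ↥G₀) => ((q : ↥G₀) : X)) hh).trans (act_spec A hy0z S.t)
  refine ⟨hX⁻¹ * y0, fun hm => hy0G ?_, hhz.inv_left.mul_left hy0z, ?_⟩
  · exact (Subgroup.mul_mem_cancel_left G₀ (G₀.inv_mem (h : ↥G₀).2)).1 hm
  · refine mul_inv_eq_iff_eq_mul.1 ?_
    calc hX⁻¹ * y0 * (S.tG : X) * (hX⁻¹ * y0)⁻¹ = hX⁻¹ * (y0 * (S.tG : X) * y0⁻¹) * hX := by group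
      _ = (S.tG : X) := by rw [← hht]; group

theorem comm_drop {X : Type v} [Group X] {a b u w : X} (ub : Commute u b) (uw : Commute u w) (ua : Commute u a)
    (wa : Commute w a) (wb : Commute w b) : ⁅a * u, b * w⁆ = ⁅a, b⁆ := by
  rw [commutatorElement_def, commutatorElement_def, mul_inv_rev, mul_inv_rev]
  calc a * u * (b * w) * (u⁻¹ * a⁻¹) * (w⁻¹ * b⁻¹) = a * (u * (b * w)) * u⁻¹ * a⁻¹ * w⁻¹ * b⁻¹ := by group
    _ = a * b * w * a⁻¹ * w⁻¹ * b⁻¹ := by rw [(ub.mul_right uw).eq]; group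
    _ = a * b * (w * a⁻¹) * w⁻¹ * b⁻¹ := by group
    _ = _ := by rw [wa.inv_right.eq]; group

/-- it may be corrected to centralise `2.Fi₂₂` -/
theorem exists_sieg (A : Amb z Q) (S : Setup z Q) (e : ↥S.Kb ≃* Cfsg.Spor.Fi22) {y : X} (hyG : y ∉ G₀)
    (hyz : Commute y (z : X)) (hyt : Commute y (S.tG : X)) :
    ∃ d : X, Sieg S d ∧ Commute d (S.tG : X) ∧ orderOf d = 2 ∧
      ∀ k ∈ S.K1, Commute d (((k : ↥S.Cg) : ↥G₀) : X) := by
  haveI : G₀.Normal := Subgroup.normal_of_index_eq_two A.idx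
  have hcent : ∀ g : ↥G₀, g ∈ S.Cg ↔ Commute (g : X) (S.tG : X) := fun g => by
    rw [Subgroup.mem_centralizer_singleton_iff]
    exact ⟨fun h => congrArg Subtype.val h, fun h => Subtype.ext h⟩
  set α0 : MulAut ↥G₀ := MulAut.conjNormal y with hα0
  have hα0X : ∀ g : ↥G₀, ((α0 g : ↥G₀) : X) = y * g * y⁻¹ := fun g => by rw [hα0, MulAut.conjNormal_apply]
  have hmap : S.Cg.map (α0 : ↥G₀ ≃* ↥G₀).toMonoidHom = S.Cg := by
    have h1 : ∀ g ∈ S.Cg, α0 g ∈ S.Cg ∧ α0⁻¹ g ∈ S.Cg := fun g hg => by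
      have h := (hcent g).1 hg
      refine ⟨(hcent _).2 ?_, (hcent _).2 ?_⟩
      · rw [hα0X]; exact (hyt.mul_left h).mul_left hyt.inv_left
      · have e1 : ((α0⁻¹ g : ↥G₀) : X) = y⁻¹ * g * y := by
          rw [hα0, ← map_inv, MulAut.conjNormal_apply, inv_inv]
        rw [e1]; exact (hyt.inv_left.mul_left h).mul_left hyt
    refine le_antisymm ?_ fun g hg => ⟨α0⁻¹ g, (h1 g hg).2, MulEquiv.apply_symm_apply α0 g⟩
    rintro _ ⟨g, hg, rfl⟩
    exact (h1 g hg).1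
  let α : ↥S.Cg ≃* ↥S.Cg := (MulEquiv.subgroupMap α0 S.Cg).trans (MulEquiv.subgroupCongr hmap)
  have hαX : ∀ g : ↥S.Cg, (((α g : ↥S.Cg) : ↥G₀) : X) = y * ((g : ↥G₀) : X) * y⁻¹ := fun g => hα0X g.1
  have hNt : S.Nt.map α.toMonoidHom = S.Nt := by
    have key : ∀ g : ↥S.Cg, (g : ↥G₀) = S.tG → α g = g := fun g hg => Subtype.ext (Subtype.ext (by
      rw [hαX, hg, hyt.eq, mul_inv_cancel_right]))
    have hfix : ∀ g ∈ S.Nt, α g = g := by
      intro g hg
      rcases S.pow_t (Subgroup.mem_subgroupOf.1 hg) with e1 | e1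
      · rw [show g = 1 from Subtype.ext e1, map_one]
      · exact key g e1
    exact le_antisymm (by rintro _ ⟨g, hg, rfl⟩; exact (hfix g hg).symm ▸ hg) fun g hg => ⟨g, hg, hfix g hg⟩
  let β0 : S.Cb ≃* S.Cb := QuotientGroup.congr S.Nt S.Nt α hNt
  have hK1 : S.K1.map α.toMonoidHom = S.K1 := by
    rw [← S.K1_fstar e]; exact Layer.map_generalizedFitting_equiv α
  have hKb : S.Kb.map β0.toMonoidHom = S.Kb := by
    rw [← Subgroup.map_comap_eq_self_of_surjective (QuotientGroup.mk'_surjective S.Nt) S.Kb, Subgroup.map_map]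
    conv_rhs => rw [show S.Kb.comap (QuotientGroup.mk' S.Nt) = S.K1 from rfl, ← hK1, Subgroup.map_map]
    rfl
  let β : MulAut ↥S.Kb := (MulEquiv.subgroupMap β0 S.Kb).trans (MulEquiv.subgroupCongr hKb)
  haveI : S.Kb.Normal := Subgroup.normal_of_index_eq_two S.Kb_index
  have hinj : Function.Injective (MulAut.conjNormal : S.Cb →* MulAut ↥S.Kb) := by
    refine (injective_iff_map_eq_one _).2 fun x hx => S.cent_Kb e fun k hk => ?_
    have h := congrArg Subtype.val (DFunLike.congr_fun hx (⟨k, hk⟩ : ↥S.Kb))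
    rw [MulAut.conjNormal_apply, MulAut.one_apply] at h
    exact mul_inv_eq_iff_eq_mul.1 h
  obtain ⟨eC⟩ := S.Cb_iso e
  haveI : Finite (MulAut ↥S.Kb) := Finite.of_injective _ DFunLike.coe_injective
  obtain ⟨c, hc⟩ := ((Nat.bijective_iff_injective_and_card _).2 ⟨hinj,
    (Nat.card_congr eC.toEquiv).trans (Nat.card_congr (MulAut.congr e).toEquiv).symm⟩).2 β
  obtain ⟨g, rfl⟩ := QuotientGroup.mk'_surjective S.Nt c
  set gX : X := ((g : ↥G₀) : X) with hgX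
  have hgt : Commute gX (S.tG : X) := (hcent g.1).1 g.2
  set d : X := gX⁻¹ * y with hd
  have hdt : Commute d (S.tG : X) := hgt.inv_left.mul_left hyt
  have hdG : d ∉ G₀ := fun h => hyG ((Subgroup.mul_mem_cancel_left G₀ (G₀.inv_mem (g : ↥G₀).2)).1 h)
  -- modulo `t` it centralises
  have hmod : ∀ k ∈ S.K1, ∃ u : X, (u = 1 ∨ u = (S.tG : X)) ∧
      d * ((k : ↥S.Cg) : ↥G₀).1 * d⁻¹ = ((k : ↥S.Cg) : ↥G₀).1 * u := by
    intro k hk
    have h := congrArg Subtype.val (DFunLike.congr_fun hc (⟨S.π k, hk⟩ : ↥S.Kb))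
    rw [MulAut.conjNormal_apply] at h
    change S.π g * S.π k * (S.π g)⁻¹ = S.π (α k) at h
    rw [← map_inv, ← map_mul, ← map_mul] at h
    have key : ∀ u : X, (((α k : ↥S.Cg) : ↥G₀) : X) = gX * ((k : ↥S.Cg) : ↥G₀).1 * gX⁻¹ * u → Commute gX u →
        d * ((k : ↥S.Cg) : ↥G₀).1 * d⁻¹ = ((k : ↥S.Cg) : ↥G₀).1 * u := by
      intro u hu hgu
      rw [hαX] at hu
      rw [hd]
      calc gX⁻¹ * y * ((k : ↥S.Cg) : ↥G₀).1 * (gX⁻¹ * y)⁻¹
          = gX⁻¹ * (y * ((k : ↥S.Cg) : ↥G₀).1 * y⁻¹) * gX := by group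
        _ = ((k : ↥S.Cg) : ↥G₀).1 * (gX⁻¹ * (u * gX)) := by rw [hu]; group
        _ = _ := by rw [← hgu.eq, inv_mul_cancel_left]
    rcases S.π_eq h with e1 | e1
    · refine ⟨1, Or.inl rfl, key 1 ?_ (Commute.one_right _)⟩
      rw [e1, mul_one]; rfl
    · refine ⟨(S.tG : X), Or.inr rfl, key _ ?_ hgt⟩
      rw [e1]; rfl
  have hu_comm : ∀ u : X, (u = 1 ∨ u = (S.tG : X)) → ∀ k : ↥S.Cg, Commute u ((k : ↥G₀) : X) := by
    rintro u (rfl | rfl) k
    · exact Commute.one_left _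
    · exact ((hcent k.1).1 k.2).symm
  have hK : ∀ k ∈ S.K1, Commute d (((k : ↥S.Cg) : ↥G₀) : X) := by
    let E : Subgroup ↥S.K1 := (Subgroup.centralizer ({d} : Set X)).comap
      (G₀.subtype.comp (S.Cg.subtype.comp S.K1.subtype))
    have hE : commutator ↥S.K1 ≤ E := by
      refine Subgroup.commutator_le.2 fun a _ b _ => Subgroup.mem_centralizer_singleton_iff.2 ?_
      obtain ⟨u, hu, hua⟩ := hmod a.1 a.2
      obtain ⟨w, hw, hwb⟩ := hmod b.1 b.2
      set f : ↥S.K1 →* X := G₀.subtype.comp (S.Cg.subtype.comp S.K1.subtype)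
      show f ⁅a, b⁆ * d = d * f ⁅a, b⁆
      rw [map_commutatorElement]
      have h1 : d * ⁅f a, f b⁆ * d⁻¹ = ⁅d * f a * d⁻¹, d * f b * d⁻¹⁆ := by
        rw [commutatorElement_def, commutatorElement_def]; group
      have h2 : Commute u w := by
        rcases hw with rfl | rfl
        · exact Commute.one_right _
        · rcases hu with rfl | rfl
          · exact Commute.one_left _
          · exact Commute.refl _
      rw [show d * f a * d⁻¹ = f a * u from hua, show d * f b * d⁻¹ = f b * w from hwb,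
        comm_drop (a := f a) (b := f b) (hu_comm u hu b.1) h2 (hu_comm u hu a.1) (hu_comm w hw a.1) (hu_comm w hw b.1)] at h1
      exact (mul_inv_eq_iff_eq_mul.1 h1).symm
    intro k hk
    exact (Subgroup.mem_centralizer_singleton_iff.1
      (hE (S.K1_perfect e ▸ Subgroup.mem_top (⟨k, hk⟩ : ↥S.K1)))).symm
  have hzK : S.zC ∈ S.K1 := S.ζ_Kb
  have hs : Sieg S d := by
    refine ⟨hdG, hK _ hzK, fun q h0 h1 => ?_⟩
    have hq : q ∈ S.CQ := S.mem_CQ.2 h0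
    exact hK (S.ι (S.jt ⟨q, hq⟩)) ((S.qb_Kb_iff ⟨q, hq⟩).2 h1)
  refine ⟨d, hs, hdt, orderOf_eq_prime ?_ fun h => hdG (h ▸ G₀.one_mem), hK⟩
  rw [sq]
  rcases hs.sq_cases A with h | h
  · exact h
  · exfalso
    -- `d * d` would centralise `2.Fi₂₂`
    have hcz : S.π S.zC = 1 := S.cent_Kb e fun k hk => by
      obtain ⟨k, rfl⟩ := QuotientGroup.mk'_surjective S.Nt k
      rw [← map_mul, ← map_mul]
      refine congrArg S.π (Subtype.ext (Subtype.ext ?_))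
      show (z : X) * _ = _ * (z : X)
      rw [← h]
      exact ((hK k hk).mul_left (hK k hk)).eq
    exact S.zk_ne (Subtype.ext hcz)

/-- the conclusion -/
theorem main (A : Amb z Q) (S : Setup z Q) (e : ↥S.Kb ≃* Cfsg.Spor.Fi22) {d : X} (hs : Sieg S d)
    (hdt : Commute d (S.tG : X)) (hK : ∀ k ∈ S.K1, Commute d (((k : ↥S.Cg) : ↥G₀) : X))
    (T0 : ↥(G₀ ⊓ Subgroup.centralizer ({d} : Set X))) (hT0 : (T0 : X) = (S.tG : X)) :
    orderOf T0 = 2 ∧ IsQuasisimple ↥(Subgroup.centralizer ({T0} : Set ↥(G₀ ⊓ Subgroup.centralizer ({d} : Set X)))) ∧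
    (∃ _ : ((Subgroup.zpowers T0).subgroupOf (Subgroup.centralizer ({T0} : Set ↥(G₀ ⊓ Subgroup.centralizer ({d} : Set X))))).Normal,
      Nonempty ((↥(Subgroup.centralizer ({T0} : Set ↥(G₀ ⊓ Subgroup.centralizer ({d} : Set X)))) ⧸
        (Subgroup.zpowers T0).subgroupOf (Subgroup.centralizer ({T0} : Set ↥(G₀ ⊓ Subgroup.centralizer ({d} : Set X)))))
          ≃* Cfsg.Spor.Fi22)) ∧
    ∃ g : ↥(G₀ ⊓ Subgroup.centralizer ({d} : Set X)),
      g * T0 * g⁻¹ ∈ Subgroup.centralizer ({T0} : Set ↥(G₀ ⊓ Subgroup.centralizer ({d} : Set X))) ∧ g * T0 * g⁻¹ ≠ T0 := by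
  have hcent : ∀ g : ↥G₀, g ∈ S.Cg ↔ Commute (g : X) (S.tG : X) := fun g => by
    rw [Subgroup.mem_centralizer_singleton_iff]
    exact ⟨fun h => congrArg Subtype.val h, fun h => Subtype.ext h⟩
  have hCc : ∀ x : ↥(G₀ ⊓ Subgroup.centralizer ({d} : Set X)), x ∈ (Subgroup.centralizer ({T0} : Set ↥(G₀ ⊓ Subgroup.centralizer ({d} : Set X)))) ↔ Commute (x : X) (S.tG : X) := fun x => by
    rw [Subgroup.mem_centralizer_singleton_iff, ← hT0]
    exact ⟨fun h => congrArg Subtype.val h, fun h => Subtype.ext h⟩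
  -- what commutes with `d` is inside
  have hin : ∀ g : ↥S.Cg, Commute d ((g : ↥G₀) : X) → g ∈ S.K1 := by
    intro g hg
    by_contra hgK
    obtain ⟨-, -, hb0, hb1⟩ := dual_facts
    set q := LargeFischer.lift S.D.F vb with hq
    have hq0 : q ∈ S.CQ := S.mem_CQ.2 (by rw [hq, S.cv_lift]; exact hb0)
    have hq1 : S.qb ⟨q, hq0⟩ ∉ S.Kb := by
      rw [S.qb_Kb_iff]
      show ¬ bp v1 (S.cv q) = 0
      rw [hq, S.cv_lift, hb1]; exact one_ne_zero
    have hp : S.ι (S.jt ⟨q, hq0⟩) * g ∈ S.K1 := by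
      show S.π (_ * g) ∈ S.Kb
      rw [map_mul, Subgroup.mul_mem_iff_of_index_two S.Kb_index]
      exact iff_of_false hq1 hgK
    have h1 : Commute d (qX q * ((g : ↥G₀) : X)) := hK _ hp
    have h2 : Commute d (qX q) := by
      have := h1.mul_right hg.inv_right
      rwa [mul_inv_cancel_right] at this
    have h3 := (hs.perp_of_fix A ((act_fix A hs.commz).2 h2)).2
    rw [hq, S.cv_lift, hb1] at h3
    exact one_ne_zero h3
  have hmemG : ∀ x : ↥(G₀ ⊓ Subgroup.centralizer ({d} : Set X)), (x : X) ∈ G₀ := fun x => x.2.1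
  have hmemd : ∀ x : ↥(G₀ ⊓ Subgroup.centralizer ({d} : Set X)), Commute (x : X) d := fun x => Subgroup.mem_centralizer_singleton_iff.1 x.2.2
  let toG : ↥(Subgroup.centralizer ({T0} : Set ↥(G₀ ⊓ Subgroup.centralizer ({d} : Set X)))) → ↥S.Cg := fun x =>
    ⟨⟨(x.1 : X), hmemG x.1⟩, (hcent _).2 ((hCc x.1).1 x.2)⟩
  let εK : ↥(Subgroup.centralizer ({T0} : Set ↥(G₀ ⊓ Subgroup.centralizer ({d} : Set X)))) ≃* ↥S.K1 :=
    { toFun := fun x => ⟨toG x, hin (toG x) (hmemd x.1).symm⟩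
      invFun := fun k => ⟨⟨((k.1 : ↥G₀) : X), k.1.1.2, Subgroup.mem_centralizer_singleton_iff.2 (hK k.1 k.2).symm⟩,
        (hCc _).2 ((hcent k.1.1).1 k.1.2)⟩
      left_inv := fun x => rfl
      right_inv := fun k => rfl
      map_mul' := fun a b => rfl }
  let f : ↥(Subgroup.centralizer ({T0} : Set ↥(G₀ ⊓ Subgroup.centralizer ({d} : Set X)))) →* ↥S.Kb := MonoidHom.mk' (fun x => ⟨S.π (εK x).1, (εK x).2⟩) fun a b => Subtype.ext (by
    show S.π (εK (a * b)).1 = S.π (εK a).1 * S.π (εK b).1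
    rw [map_mul εK, Subgroup.coe_mul, map_mul])
  have hf : Function.Surjective f := by
    rintro ⟨k, hk⟩
    obtain ⟨k, rfl⟩ := QuotientGroup.mk'_surjective S.Nt k
    exact ⟨εK.symm ⟨k, hk⟩, rfl⟩
  have hker : f.ker = (Subgroup.zpowers T0).subgroupOf (Subgroup.centralizer ({T0} : Set ↥(G₀ ⊓ Subgroup.centralizer ({d} : Set X)))) := by
    ext x
    rw [MonoidHom.mem_ker, Subgroup.mem_subgroupOf]
    have h2 : (((εK x).1 : ↥G₀) : X) = ((x : ↥(G₀ ⊓ Subgroup.centralizer ({d} : Set X))) : X) := rfl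
    constructor
    · intro h
      rcases S.pow_t (Subgroup.mem_subgroupOf.1 ((QuotientGroup.eq_one_iff _).1 (congrArg Subtype.val h))) with e1 | e1
      · rw [show (x : ↥(G₀ ⊓ Subgroup.centralizer ({d} : Set X))) = 1 from Subtype.ext (h2.symm.trans (congrArg Subtype.val e1))]; exact one_mem _
      · rw [show (x : ↥(G₀ ⊓ Subgroup.centralizer ({d} : Set X))) = T0 from Subtype.ext ((h2.symm.trans (congrArg Subtype.val e1)).trans hT0.symm)]
        exact Subgroup.mem_zpowers _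
    · intro h
      obtain ⟨i, hi⟩ := Subgroup.mem_zpowers_iff.1 h
      refine Subtype.ext ((QuotientGroup.eq_one_iff _).2 (Subgroup.mem_subgroupOf.2 (Subgroup.mem_zpowers_iff.2 ⟨i, ?_⟩)))
      refine Subtype.ext ?_
      rw [h2, ← hi, SubgroupClass.coe_zpow, SubgroupClass.coe_zpow, hT0]
  haveI hn : ((Subgroup.zpowers T0).subgroupOf (Subgroup.centralizer ({T0} : Set ↥(G₀ ⊓ Subgroup.centralizer ({d} : Set X))))).Normal := hker ▸ MonoidHom.normal_ker f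
  have hsq : orderOf T0 = 2 := by
    rw [← Subgroup.orderOf_coe, hT0, Subgroup.orderOf_coe]; exact S.tG_order
  refine ⟨hsq, Layer.isQuasisimple_congr εK.symm (S.K1_quasisimple e),
    ⟨hn, ⟨((QuotientGroup.quotientMulEquivOfEq hker.symm).trans
      (QuotientGroup.quotientKerEquivOfSurjective f hf)).trans e⟩⟩, ?_⟩
  obtain ⟨h, hhd, hhv, -⟩ := hs.exists_move A
  set hX : X := ((h : ↥G₀) : X) with hhX
  let g : ↥(G₀ ⊓ Subgroup.centralizer ({d} : Set X)) := ⟨hX, (h : ↥G₀).2, Subgroup.mem_centralizer_singleton_iff.2 hhd⟩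
  have hconj : qX (MulAut.conjNormal h S.t) = hX * (S.tG : X) * hX⁻¹ := by
    show ((((MulAut.conjNormal h S.t : ↥Q) : Subgroup.centralizer ({z} : Set ↥G₀)) : ↥G₀) : X) = _
    rw [MulAut.conjNormal_apply]; rfl
  have hgX : ((g * T0 * g⁻¹ : ↥(G₀ ⊓ Subgroup.centralizer ({d} : Set X))) : X) = hX * (S.tG : X) * hX⁻¹ := by
    rw [Subgroup.coe_mul, Subgroup.coe_mul, Subgroup.coe_inv, hT0]
  refine ⟨g, (hCc _).2 ?_, fun h' => ?_⟩
  · rw [hgX, ← hconj]
    have hc := (S.comm_cv (MulAut.conjNormal h S.t) S.t).2 (by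
      rw [hhv, S.cv_t, bp_symm]; exact sigma_facts.2.2.2.2.2.2.2.2.2.2.2.2.2.2.2.1)
    have := congrArg qX hc
    rwa [map_mul, map_mul] at this
  · have h'' := congrArg Subtype.val h'
    rw [hgX, hT0, ← hconj] at h''
    have h3 : S.cv (MulAut.conjNormal h S.t) = S.cv S.t := congrArg S.cv (qX_inj h'')
    rw [hhv, S.cv_t] at h3
    exact sigma_facts.2.2.2.2.2.2.1 h3

end Cfsg.Agent.LargeFischerAut
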