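import Cfsg.Agent.Fi22Aut.Result
import Cfsg.Agent.LargeFischerAut.Coord
import Cfsg.Agent.Layer.FStar

/-! An involution outside the subgroup of index two centralising `2.Fi₂₂`. -/

set_option autoImplicit false
set_option maxRecDepth 20000
set_option Elab.async false

open Finset Cfsg Cfsg.Agent
open scoped commutatorElement

namespace Cfsg.Agent.LargeFischerAut

open Cfsg.Agent.LargeFischer hiding v1
open Fi22Aut

universe v

variable {X : Type v} [Group X] [Finite X] {G₀ : Subgroup X} {z : ↥G₀}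
  {Q : Subgroup (Subgroup.centralizer ({z} : Set ↥G₀))} [Q.Normal]

/-- `Q` in the larger group -/
abbrev qX : ↥Q →* X := (G₀.subtype.comp (Subgroup.centralizer ({z} : Set ↥G₀)).subtype).comp Q.subtype

omit [Finite X] [Q.Normal] in
theorem qX_inj : Function.Injective (qX (Q := Q)) := fun _ _ h => Subtype.ext (Subtype.ext (Subtype.ext h))

omit [Finite X] [Q.Normal] in
theorem qX_comm (q : ↥Q) : Commute (qX q) (z : X) :=
  congrArg Subtype.val (Subgroup.mem_centralizer_singleton_iff.1 q.1.2)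

omit [Finite X] [Q.Normal] in
/-- the hypotheses about the centraliser in the larger group -/
structure Amb (z : ↥G₀) (Q : Subgroup (Subgroup.centralizer ({z} : Set ↥G₀))) : Prop where
  idx : G₀.index = 2
  norm : ∀ x : X, Commute x (z : X) → ∀ q : ↥Q, ∃ q' : ↥Q, qX q' = x * qX q * x⁻¹
  cent : ∀ x : X, Commute x (z : X) → (∀ q : ↥Q, Commute x (qX q)) → ∃ q : ↥Q, qX q = x

theorem amb_of (hidx : G₀.index = 2) (hFX : (Cfsg.generalizedFittingSubgroup
    ↥(Subgroup.centralizer ({(z : X)} : Set X))).map (Subgroup.subtype _) =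
      ((Q.map (Subgroup.subtype _)).map G₀.subtype)) : Amb z Q := by
  set C := Subgroup.centralizer ({(z : X)} : Set X)
  set F := generalizedFittingSubgroup ↥C
  have hr : ∀ y : ↥C, y ∈ F ↔ ∃ q : ↥Q, qX q = y := by
    intro y
    constructor
    · intro hy
      have h : (y : X) ∈ F.map C.subtype := ⟨y, hy, rfl⟩
      rw [hFX] at h
      obtain ⟨a, ⟨b, hb, hba⟩, ha⟩ := h
      exact ⟨⟨b, hb⟩, by rw [← ha, ← hba]; rfl⟩
    · rintro ⟨q, hq⟩
      have h : (y : X) ∈ F.map C.subtype := by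
        rw [hFX]
        exact ⟨_, ⟨q.1, q.2, rfl⟩, hq⟩
      obtain ⟨y', hy', e⟩ := h
      rwa [← Subtype.ext (a1 := y') (a2 := y) e]
  refine ⟨hidx, fun x hx q => ?_, fun x hx h => ?_⟩
  · have hxC : x ∈ C := Subgroup.mem_centralizer_singleton_iff.2 hx
    have hqC : qX q ∈ C := Subgroup.mem_centralizer_singleton_iff.2 (qX_comm q)
    exact (hr (⟨x, hxC⟩ * ⟨qX q, hqC⟩ * ⟨x, hxC⟩⁻¹)).1
      ((Subgroup.normal_of_characteristic F).conj_mem _ ((hr ⟨qX q, hqC⟩).2 ⟨q, rfl⟩) _)
  · have hxC : x ∈ C := Subgroup.mem_centralizer_singleton_iff.2 hx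
    refine (hr ⟨x, hxC⟩).1 (Layer.centralizer_generalizedFitting_le (Subgroup.mem_centralizer_iff.2 fun y hy => ?_))
    obtain ⟨q, hq⟩ := (hr y).1 hy
    exact Subtype.ext (by
      show (y : X) * x = x * y
      rw [← hq]; exact (h q).eq.symm)

section Act

variable (A : Amb z Q) {x : X} (hx : Commute x (z : X))

/-- the action -/
noncomputable def act : ↥Q →* ↥Q :=
  MonoidHom.mk' (fun q => Classical.choose (A.norm x hx q)) fun a b => qX_inj (by
    refine (Classical.choose_spec (A.norm x hx (a * b))).trans ?_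
    have ha := Classical.choose_spec (A.norm x hx a)
    have hb := Classical.choose_spec (A.norm x hx b)
    generalize Classical.choose (A.norm x hx a) = a' at ha ⊢
    generalize Classical.choose (A.norm x hx b) = b' at hb ⊢
    rw [map_mul, map_mul, ha, hb]
    group)

theorem act_spec (q : ↥Q) : qX (act A hx q) = x * qX q * x⁻¹ := Classical.choose_spec (A.norm x hx q)

theorem act_eq {q r : ↥Q} (h : qX r = x * qX q * x⁻¹) : act A hx q = r :=
  qX_inj ((act_spec A hx q).trans h.symm)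

theorem act_inj : Function.Injective (act A hx) := fun a b h => qX_inj (by
  have h' := congrArg qX h
  rw [act_spec, act_spec] at h'
  exact mul_left_cancel (mul_right_cancel h'))

theorem act_fix {q : ↥Q} : act A hx q = q ↔ Commute x (qX q) := by
  constructor
  · intro h
    have h' := act_spec A hx q
    rw [h] at h'
    exact (mul_inv_eq_iff_eq_mul.1 h'.symm)
  · intro h
    exact act_eq A hx (by rw [h.eq, mul_inv_cancel_right])

end Act

variable (S : Setup z Q)

theorem qX_ζ : qX S.ζ = (z : X) := rfl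

theorem eq_ζ {q : ↥Q} (h : qX q = (z : X)) : q = S.ζ := qX_inj (h.trans (qX_ζ S).symm)

/-- an outer element acting trivially on the complement of the plane -/
structure Sieg (d : X) : Prop where
  notMem : d ∉ G₀
  commz : Commute d (z : X)
  fix : ∀ q : ↥Q, bp v0 (S.cv q) = 0 → bp v1 (S.cv q) = 0 → Commute d (qX q)

namespace Sieg

variable {S} (A : Amb z Q) {d : X} (hd : Sieg S d)
include A hd

/-- its action -/
noncomputable abbrev dQ : ↥Q →* ↥Q := act A hd.commz

theorem dQ_fix {q : ↥Q} (h0 : bp v0 (S.cv q) = 0) (h1 : bp v1 (S.cv q) = 0) : hd.dQ A q = q :=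
  (act_fix A hd.commz).2 (hd.fix q h0 h1)

/-- what it adds -/
noncomputable abbrev m (q : ↥Q) : Vec6 := S.cv q + S.cv (hd.dQ A q)

theorem m_mul (a b : ↥Q) : hd.m A (a * b) = hd.m A a + hd.m A b := by
  simp only [m, map_mul, S.cv_mul]
  abel

theorem m_fix {q : ↥Q} (h : hd.dQ A q = q) : hd.m A q = 0 := by rw [m, h, add_self6]

theorem m_congr {a b : ↥Q} (h : S.cv a = S.cv b) : hd.m A a = hd.m A b := by
  rcases S.cv_congr h with e | e
  · rw [e]
  · rw [e, hd.m_mul A, hd.m_fix A (hd.dQ_fix A (q := S.ζ) (by rw [S.cv_ζ]; decide +kernel)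
      (by rw [S.cv_ζ]; decide +kernel)), add_zero]

theorem cv_dQ (q : ↥Q) : S.cv (hd.dQ A q) = S.cv q + hd.m A q := by
  rw [m, ← add_assoc, add_self6, zero_add]

theorem bp_dQ (q r : ↥Q) : bp (S.cv (hd.dQ A q)) (S.cv (hd.dQ A r)) = bp (S.cv q) (S.cv r) := by
  have h : bp (S.cv (hd.dQ A q)) (S.cv (hd.dQ A r)) = 0 ↔ bp (S.cv q) (S.cv r) = 0 := by
    rw [← S.comm_cv, ← S.comm_cv, ← map_mul, ← map_mul, (act_inj A hd.commz).eq_iff]
  exact (show ∀ p q : ZMod 2, (p = 0 ↔ q = 0) → p = q by decide) _ _ h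

theorem par_dQ (q : ↥Q) : par (S.cv (hd.dQ A q)) = par (S.cv q) := by
  have h : par (S.cv (hd.dQ A q)) = 0 ↔ par (S.cv q) = 0 := by
    rw [← sq_iff S.D.b S.D.F (S.mk_cv _), ← sq_iff S.D.b S.D.F (S.mk_cv _), ← map_mul,
      map_eq_one_iff _ (act_inj A hd.commz)]
  exact (show ∀ p q : ZMod 2, (p = 0 ↔ q = 0) → p = q by decide) _ _ h

theorem m_plane (q : ↥Q) : ∃ p, hd.m A q = vv p := by
  refine mem_plane fun x h0 h1 => ?_
  have hr := hd.dQ_fix A (q := LargeFischer.lift S.D.F x) (by rw [S.cv_lift]; exact h0) (by rw [S.cv_lift]; exact h1)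
  have h := hd.bp_dQ A q (LargeFischer.lift S.D.F x)
  rw [hr, S.cv_lift, hd.cv_dQ A, bp_add_left, add_eq_left] at h
  rw [bp_symm]; exact h

/-- `d` is not inside, so the map into the plane is the nontrivial one -/
theorem m_formula (q : ↥Q) : hd.m A q = vv (bp v1 (S.cv q), bp v0 (S.cv q)) := by
  set la := LargeFischer.lift S.D.F va with hla
  set lb := LargeFischer.lift S.D.F vb with hlb
  obtain ⟨pa, hpa⟩ := hd.m_plane A la
  obtain ⟨pb, hpb⟩ := hd.m_plane A lb
  obtain ⟨ha0, ha1, hb0, hb1⟩ := dual_facts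
  have e1 : bp va (vv pa) = 0 := by
    have h := hd.par_dQ A la
    rw [hd.cv_dQ A, hpa, par_add6, vv_facts.2.2.2.2.1, add_zero, add_eq_left, hla, S.cv_lift] at h
    exact h
  have e2 : bp vb (vv pb) = 0 := by
    have h := hd.par_dQ A lb
    rw [hd.cv_dQ A, hpb, par_add6, vv_facts.2.2.2.2.1, add_zero, add_eq_left, hlb, S.cv_lift] at h
    exact h
  have e3 : bp va (vv pb) + bp (vv pa) vb + bp (vv pa) (vv pb) = 0 := by
    have h := hd.bp_dQ A la lb
    rw [hd.cv_dQ A, hd.cv_dQ A, hpa, hpb, hla, hlb, S.cv_lift, S.cv_lift, bp_add_left, bp_add_right,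
      bp_add_right, add_assoc, add_eq_left] at h
    rw [add_assoc]; exact h
  have hrest : ∀ q : ↥Q, hd.m A q =
      (if bp v0 (S.cv q) = 0 then 0 else vv pa) + (if bp v1 (S.cv q) = 0 then 0 else vv pb) := by
    intro q
    obtain ⟨r0, r1⟩ := rest_perp (S.cv q)
    have e : S.cv q = S.cv (LargeFischer.lift S.D.F (rest (S.cv q)) * (if bp v0 (S.cv q) = 0 then 1 else la) *
        (if bp v1 (S.cv q) = 0 then 1 else lb)) := by
      rw [S.cv_mul, S.cv_mul, S.cv_lift, apply_ite S.cv, apply_ite S.cv, S.cv_one, hla, hlb, S.cv_lift, S.cv_lift]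
      exact rest_decomp _
    rw [hd.m_congr A e, hd.m_mul A, hd.m_mul A,
      hd.m_fix A (hd.dQ_fix A (q := LargeFischer.lift S.D.F (rest (S.cv q))) (by rw [S.cv_lift]; exact r0)
        (by rw [S.cv_lift]; exact r1)), zero_add, apply_ite (hd.m A), apply_ite (hd.m A), hpa, hpb,
      hd.m_fix A (map_one _)]
  classical
  rcases plane_maps pa pb ⟨e1, e2, e3⟩ with ⟨rfl, rfl⟩ | ⟨rfl, rfl⟩
  · exfalso
    refine hd.notMem ?_
    have hm : ∀ q : ↥Q, S.cv (hd.dQ A q) = S.cv q := fun q => by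
      rw [hd.cv_dQ A, hrest, vv_facts.2.2.2.2.2.2.2, ite_self, ite_self, add_zero, add_zero]
    set pα : ZMod 2 := if hd.dQ A la = la then 0 else 1 with hα
    set pβ : ZMod 2 := if hd.dQ A lb = lb then 0 else 1 with hβ
    set c := LargeFischer.lift S.D.F (vv (pα, pβ)) with hc
    have hcc : ∀ q, bp (S.cv c) (S.cv q) = 0 → c * q * c⁻¹ = q := fun q h =>
      mul_inv_eq_iff_eq_mul.2 ((S.comm_cv c q).2 h)
    have hone : ∀ q : ↥Q, (bp (S.cv c) (S.cv q) = if hd.dQ A q = q then 0 else 1) → hd.dQ A q = c * q * c⁻¹ := by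
      intro q h
      by_cases hq : hd.dQ A q = q
      · rw [if_pos hq] at h
        rw [hq, hcc q h]
      · rw [if_neg hq] at h
        rw [S.conj_of_bp h]
        exact (S.cv_congr (hm q).symm).resolve_left hq
    have hgen : ∀ q : ↥Q, hd.dQ A q = c * q * c⁻¹ := by
      intro q
      let f : ↥Q →* ↥Q := (MulAut.conj c).toMonoidHom
      have hf : ∀ q, f q = c * q * c⁻¹ := fun q => rfl
      rw [← hf]
      have ha : hd.dQ A la = f la := hone la (by
        rw [hc, hla, S.cv_lift, S.cv_lift, (plane_facts _).2.2.2.1])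
      have hb : hd.dQ A lb = f lb := hone lb (by
        rw [hc, hlb, S.cv_lift, S.cv_lift, (plane_facts _).2.2.2.2])
      have hfix : ∀ r : ↥Q, bp v0 (S.cv r) = 0 → bp v1 (S.cv r) = 0 → hd.dQ A r = f r := by
        intro r h0 h1
        refine hone r ?_
        rw [if_pos (hd.dQ_fix A h0 h1), hc, S.cv_lift]
        have h00 : bp (vv 0) (S.cv r) = 0 := by
          have := bp_add_left (0 : Vec6) 0 (S.cv r)
          rw [add_zero, left_eq_add] at this
          rw [vv_facts.2.2.2.2.2.2.2]; exact this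
        have h10 : bp (vv (1, 0)) (S.cv r) = 0 := by rw [vv_facts.1]; exact h0
        have h01 : bp (vv (0, 1)) (S.cv r) = 0 := by rw [vv_facts.2.1]; exact h1
        obtain e | e | e | e := (show ∀ p : W4, p = 0 ∨ p = (1, 0) ∨ p = (0, 1) ∨ p = (1, 0) + (0, 1) by decide) (pα, pβ)
        · rw [e]; exact h00
        · rw [e]; exact h10
        · rw [e]; exact h01
        · rw [e, vv_facts.2.2.2.2.2.2.1, bp_add_left, h10, h01, add_zero]
      obtain ⟨r0, r1⟩ := rest_perp (S.cv q)
      set w := LargeFischer.lift S.D.F (rest (S.cv q)) * (if bp v0 (S.cv q) = 0 then 1 else la) *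
        (if bp v1 (S.cv q) = 0 then 1 else lb) with hw
      have e : S.cv w = S.cv q := by
        rw [hw, S.cv_mul, S.cv_mul, S.cv_lift, apply_ite S.cv, apply_ite S.cv, S.cv_one, hla, hlb, S.cv_lift,
          S.cv_lift]
        exact (rest_decomp _).symm
      have hwe : hd.dQ A w = f w := by
        rw [hw, map_mul, map_mul, map_mul, map_mul, hfix _ (by rw [S.cv_lift]; exact r0) (by rw [S.cv_lift]; exact r1),
          apply_ite (hd.dQ A), apply_ite (hd.dQ A), apply_ite f, apply_ite f, map_one, map_one, ha, hb]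
      rcases S.cv_congr e with e' | e'
      · rw [e', hwe]
      · rw [e', map_mul (hd.dQ A) w S.ζ, map_mul f w S.ζ, hwe, hfix S.ζ (by rw [S.cv_ζ]; decide +kernel) (by rw [S.cv_ζ]; decide +kernel)]
    obtain ⟨r, hr⟩ := A.cent ((qX c)⁻¹ * d) ((qX_comm c).inv_left.mul_left hd.commz) fun q => by
      have h := act_spec A hd.commz q
      rw [show act A hd.commz q = c * q * c⁻¹ from hgen q, map_mul, map_mul, map_inv] at h
      show (qX c)⁻¹ * d * qX q = qX q * ((qX c)⁻¹ * d)
      calc (qX c)⁻¹ * d * qX q = (qX c)⁻¹ * (d * qX q * d⁻¹) * d := by group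
        _ = _ := by rw [← h]; group
    have : d = qX (c * r) := by rw [map_mul, hr, mul_inv_cancel_left]
    rw [this]
    exact (((c * r : ↥Q) : Subgroup.centralizer ({z} : Set ↥G₀)) : ↥G₀).2
  · rw [hrest]
    rcases zmod2_cases (bp v0 (S.cv q)) with h0 | h0 <;> rcases zmod2_cases (bp v1 (S.cv q)) with h1 | h1 <;>
      simp only [h0, h1, if_true, if_neg (one_ne_zero : (1 : ZMod 2) ≠ 0)]
    · rw [add_zero]; exact vv_facts.2.2.2.2.2.2.2.symm
    · rw [zero_add]
    · rw [add_zero]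
    · rw [← vv_facts.2.2.2.2.2.2.1]; rfl

theorem dQ_dQ (q : ↥Q) : hd.dQ A (hd.dQ A q) = q := by
  set w := q⁻¹ * hd.dQ A q with hw
  have hcw : S.cv w = vv (bp v1 (S.cv q), bp v0 (S.cv q)) := by
    rw [hw, S.cv_mul, S.cv_inv]; exact hd.m_formula A q
  have hww : w * w = 1 := (sq_iff S.D.b S.D.F (S.mk_cv w)).2 (by rw [hcw]; exact vv_facts.2.2.2.2.1 _)
  have hfix : hd.dQ A w = w :=
    hd.dQ_fix A (by rw [hcw]; exact (plane_facts _).1) (by rw [hcw]; exact (plane_facts _).2.1)
  have e : hd.dQ A q = q * w := (mul_inv_cancel_left q _).symm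
  rw [e, map_mul, hfix, e, mul_assoc, hww, mul_one]

theorem perp_of_fix {q : ↥Q} (h : hd.dQ A q = q) : bp v0 (S.cv q) = 0 ∧ bp v1 (S.cv q) = 0 := by
  have h1 := hd.m_formula A q
  rw [hd.m_fix A h] at h1
  have h2 := (plane_facts _).2.2.1 h1.symm
  exact ⟨congrArg Prod.snd h2, congrArg Prod.fst h2⟩

theorem sq_cases : d * d = 1 ∨ d * d = (z : X) := by
  obtain ⟨r, hr⟩ := A.cent (d * d) (hd.commz.mul_left hd.commz) fun q => by
    have h := act_spec A hd.commz (hd.dQ A q)
    rw [show act A hd.commz (hd.dQ A q) = q from hd.dQ_dQ A q, act_spec A hd.commz q] at h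
    show d * d * qX q = qX q * (d * d)
    conv_rhs => rw [h]
    group
  have hrc : r ∈ Subgroup.center ↥Q := Subgroup.mem_center_iff.2 fun q => qX_inj (by
    rw [map_mul, map_mul, hr]
    have h := act_spec A hd.commz (hd.dQ A q)
    rw [show act A hd.commz (hd.dQ A q) = q from hd.dQ_dQ A q, act_spec A hd.commz q] at h
    conv_lhs => rw [h]
    group)
  rcases (center_iff S.D.b).1 hrc with e | e
  · exact Or.inl (by rw [← hr, e, map_one])
  · exact Or.inr (by rw [← hr]; exact congrArg (fun x : Subgroup.centralizer ({z} : Set ↥G₀) => ((x : ↥G₀) : X)) e)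

/-- an element of order three carries the plane round, and a conjugate of `d` differs from `d` by the plane -/
theorem exists_move : ∃ h : Subgroup.centralizer ({z} : Set ↥G₀),
    ((h : ↥G₀) : X) * d = d * ((h : ↥G₀) : X) ∧ S.cv (MulAut.conjNormal h S.t) = v1 ∧
      ∀ c, cact S.D.F h c = sm 1 c := by
  obtain ⟨x, -, hxa⟩ := S.D.exists_scalar
  set xX : X := ((x : ↥G₀) : X) with hxX
  have hxz : Commute xX (z : X) := congrArg Subtype.val (Subgroup.mem_centralizer_singleton_iff.1 x.2)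
  have hdG : ∀ g : X, g ∈ G₀ → d * g ∉ G₀ := fun g hg h => hd.notMem ((Subgroup.mul_mem_cancel_right G₀ hg).1 h)
  have hd' : Sieg S (xX * d * xX⁻¹) := by
    refine ⟨fun h => hd.notMem ?_, (hxz.mul_left hd.commz).mul_left hxz.inv_left, fun q h0 h1 => ?_⟩
    · have h2 := G₀.mul_mem (G₀.mul_mem (G₀.inv_mem (x : ↥G₀).2) h) (x : ↥G₀).2
      rwa [← hxX, show xX⁻¹ * (xX * d * xX⁻¹) * xX = d by group] at h2
    · set q' := MulAut.conjNormal x⁻¹ q with hq'
      have e : qX q' = xX⁻¹ * qX q * xX := by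
        show (((q' : Subgroup.centralizer ({z} : Set ↥G₀)) : ↥G₀) : X) = _
        rw [hq', MulAut.conjNormal_apply, inv_inv]
        rfl
      have hcv : S.cv q' = cact S.D.F x⁻¹ (S.cv q) := S.cv_conj _ _
      have hback : cact S.D.F x (cact S.D.F x⁻¹ (S.cv q)) = S.cv q := by
        rw [← cact_mul, mul_inv_cancel, cact_one]
      have hb : ∀ a, bp a (S.cv q') = bp (sm 1 a) (S.cv q) := fun a => by
        rw [hcv, ← S.D.bp_cact x a, hxa a, hback]
      have hf := hd.fix q' (by rw [hb]; exact h1) (by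
        rw [hb, v1, sm_sm, show (1 + 1 : ZMod 3) = 2 from rfl, show srep 0 = v0 from rfl, v1_images.1, bp_add_left,
          h0, h1, add_zero])
      rw [e] at hf
      show xX * d * xX⁻¹ * qX q = qX q * (xX * d * xX⁻¹)
      calc xX * d * xX⁻¹ * qX q = xX * (d * (xX⁻¹ * qX q * xX)) * xX⁻¹ := by group
        _ = xX * ((xX⁻¹ * qX q * xX) * d) * xX⁻¹ := by rw [hf.eq]
        _ = _ := by group
  set d' := xX * d * xX⁻¹ with hd'def
  have hd2 : ∀ q, d⁻¹ * qX q * d = qX (hd.dQ A q) := fun q => by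
    have h := act_spec A hd.commz (hd.dQ A q)
    rw [show act A hd.commz (hd.dQ A q) = q from hd.dQ_dQ A q] at h
    rw [h]; group
  have heG : d⁻¹ * d' ∈ G₀ := by
    rw [Subgroup.mul_mem_iff_of_index_two A.idx, Subgroup.inv_mem_iff]
    exact iff_of_false hd.notMem hd'.notMem
  have hez : Commute (d⁻¹ * d') (z : X) := hd.commz.inv_left.mul_left hd'.commz
  set e : Subgroup.centralizer ({z} : Set ↥G₀) :=
    ⟨⟨d⁻¹ * d', heG⟩, Subgroup.mem_centralizer_singleton_iff.2 (Subtype.ext hez.eq)⟩ with he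
  have heq : ∀ q, MulAut.conjNormal e q = hd.dQ A (hd'.dQ A q) := fun q => qX_inj (by
    rw [← hd2, show qX (hd'.dQ A q) = d' * qX q * d'⁻¹ from act_spec A hd'.commz q]
    show ((((MulAut.conjNormal e q : ↥Q) : Subgroup.centralizer ({z} : Set ↥G₀)) : ↥G₀) : X) = _
    rw [MulAut.conjNormal_apply]
    show d⁻¹ * d' * qX q * (d⁻¹ * d')⁻¹ = _
    group)
  have heQ : e ∈ Q := S.D.mem_Q_of_act fun v => by
    have h := S.cv_conj e (LargeFischer.lift S.D.F v)
    rw [heq, hd.cv_dQ A, hd.m_formula A, hd'.cv_dQ A, hd'.m_formula A, S.cv_lift, bp_add_right, bp_add_right,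
      (plane_facts _).1, (plane_facts _).2.1, add_zero, add_zero, add_assoc, add_self6, add_zero] at h
    exact h.symm
  set c : ↥Q := ⟨e, heQ⟩ with hc
  have hcX : qX c = d⁻¹ * d' := rfl
  obtain ⟨p, hp⟩ : ∃ p, S.cv c = vv p := mem_plane fun v h0 h1 => by
    rw [bp_symm, ← S.cv_lift v, ← S.comm_cv]
    refine qX_inj ?_
    rw [map_mul, map_mul, hcX]
    exact ((hd.fix _ (by rw [S.cv_lift]; exact h0) (by rw [S.cv_lift]; exact h1)).inv_left.mul_left
      (hd'.fix _ (by rw [S.cv_lift]; exact h0) (by rw [S.cv_lift]; exact h1))).eq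
  obtain ⟨v, hv⟩ := plane_onto p
  set j := LargeFischer.lift S.D.F v with hj
  have hjm : S.cv (hd.dQ A j * j⁻¹) = S.cv c := by
    rw [S.cv_mul, S.cv_inv, add_comm, hp, ← hv, ← S.cv_lift v]; exact hd.m_formula A j
  have hjd : qX j * d * (qX j)⁻¹ = d * qX (hd.dQ A j * j⁻¹) := by
    rw [map_mul, ← hd2, map_inv]; group
  have hjd' : qX j * d * (qX j)⁻¹ = d' ∨ qX j * d * (qX j)⁻¹ = d' * (z : X) := by
    rw [hjd]
    rcases S.cv_congr hjm with e1 | e1
    · left; rw [← e1, hcX, mul_inv_cancel_left]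
    · right
      have h1 : hd.dQ A j * j⁻¹ = c * S.ζ := by
        rw [e1, mul_assoc, S.ζ_sq, mul_one]
      rw [h1, map_mul, hcX, qX_ζ, ← mul_assoc, mul_inv_cancel_left]
  set h : Subgroup.centralizer ({z} : Set ↥G₀) := (j : Subgroup.centralizer ({z} : Set ↥G₀))⁻¹ * x with hh
  set hX : X := ((h : ↥G₀) : X) with hhX
  have hhX' : hX = (qX j)⁻¹ * xX := rfl
  have hact : ∀ c, cact S.D.F h c = sm 1 c := fun c => by
    rw [hh, cact_mul, S.D.cact_Q (Q.inv_mem j.2), hxa]
  have hcases : hX * d * hX⁻¹ = d ∨ hX * d * hX⁻¹ = d * (z : X) := by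
    have hzj : Commute (qX j) (z : X) := qX_comm j
    have hzi : (z : X) * (z : X) = 1 := by
      rw [← qX_ζ S, ← map_mul, S.ζ_sq, map_one]
    have e0 : hX * d * hX⁻¹ = (qX j)⁻¹ * d' * qX j := by rw [hhX', hd'def]; group
    rw [e0]
    rcases hjd' with e1 | e1
    · left; rw [← e1]; group
    · right
      have e2 : d' = qX j * d * (qX j)⁻¹ * (z : X) := by rw [e1, mul_assoc, hzi, mul_one]
      rw [e2]
      calc (qX j)⁻¹ * (qX j * d * (qX j)⁻¹ * (z : X)) * qX j
          = d * ((qX j)⁻¹ * ((z : X) * qX j)) := by group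
        _ = d * (z : X) := by rw [← hzj.eq, inv_mul_cancel_left]
  refine ⟨h, ?_, ?_, hact⟩
  · rcases hcases with e1 | e1
    · exact mul_inv_eq_iff_eq_mul.1 e1
    · exfalso
      have hhz : Commute hX (z : X) := congrArg Subtype.val (Subgroup.mem_centralizer_singleton_iff.1 h.2)
      have hrQ : h * h * h ∈ Q := S.D.mem_Q_of_act fun c => by
        rw [cact_mul, cact_mul, hact, hact, hact, sm_sm, sm_sm, show (1 + 1 + 1 : ZMod 3) = 0 from rfl, sm_zero]
      set r : ↥Q := ⟨_, hrQ⟩ with hr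
      have hrX : qX r = hX * hX * hX := rfl
      have hzi : (z : X) * (z : X) = 1 := by rw [← qX_ζ S, ← map_mul, S.ζ_sq, map_one]
      have e2 : qX r * d * (qX r)⁻¹ = d * (z : X) := by
        rw [hrX]
        have k1 : hX * (d * (z : X)) * hX⁻¹ = d := by
          rw [show hX * (d * (z : X)) * hX⁻¹ = (hX * d * hX⁻¹) * (hX * (z : X) * hX⁻¹) by group, e1,
            hhz.eq, mul_inv_cancel_right, mul_assoc, hzi, mul_one]
        calc hX * hX * hX * d * (hX * hX * hX)⁻¹ = hX * (hX * (hX * d * hX⁻¹) * hX⁻¹) * hX⁻¹ := by group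
          _ = _ := by rw [e1, k1, e1]
      have hrm : S.cv (hd.dQ A r * r⁻¹) = 0 := by
        have e3 : qX (hd.dQ A r * r⁻¹) = (z : X) := by
          rw [map_mul, ← hd2, map_inv, mul_assoc, mul_assoc, ← mul_assoc (qX r), e2, inv_mul_cancel_left]
        rw [eq_ζ S e3, S.cv_ζ]
      rw [S.cv_mul, S.cv_inv] at hrm
      have hfix : hd.dQ A r = r := by
        have h1 := hd.m_formula A r
        rw [m, add_comm, hrm] at h1
        have h2 := (plane_facts _).2.2.1 h1.symm
        exact hd.dQ_fix A (congrArg Prod.snd h2) (congrArg Prod.fst h2)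
      rw [((act_fix A hd.commz).1 hfix).symm.eq, mul_inv_cancel_right, left_eq_mul] at e2
      exact S.ζ_ne (qX_inj (by rw [qX_ζ, e2, map_one]))
  · rw [S.cv_conj, S.cv_t, hact]; rfl

end Sieg

end Cfsg.Agent.LargeFischerAut
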